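import Cfsg.Agent.Lib.CharClifford.Correspondence
import Cfsg.Agent.Lib.CharClifford.Divides
import Cfsg.Agent.Lib.CharAux

/-!
# Ito's degree theorem
-/

set_option autoImplicit false

namespace Cfsg.Agent.Lib.Ito

open Cfsg Cfsg.Agent.Lib Cfsg.Agent.Lib.Char Cfsg.Agent.Lib.CharClifford

theorem apply_one_of_abelian {H : Type*} [Group H] [Fintype H] (hH : ∀ a b : H, a * b = b * a)
    {χ : H → ℂ} (hχ : IsIrrCharacter H χ) : χ 1 = 1 := by
  obtain ⟨n, ρ, hρ, rfl⟩ := hχ
  have := hρ
  have hscal : ∀ g, ∃ c : ℂ, ρ g = c • (1 : Module.End ℂ (Fin n → ℂ)) := fun g =>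
    exists_smul_of_commute ρ (ρ g) fun k => by rw [← map_mul, ← map_mul, hH]
  choose c hc using hscal
  rcases Nat.eq_zero_or_pos n with rfl | hn
  · exact absurd (by simp : ρ.character 1 = 0) (irr_degree_ne_zero (isIrrCharacter_character ρ))
  let U : Subrepresentation ρ :=
    { toSubmodule := ℂ ∙ (Pi.single (⟨0, hn⟩ : Fin n) (1 : ℂ))
      apply_mem_toSubmodule := fun g x hx => by
        rw [hc g, LinearMap.smul_apply, Module.End.one_apply]
        exact Submodule.smul_mem _ _ hx }
  rcases eq_bot_or_eq_top U with hU | hU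
  · have : (Pi.single (⟨0, hn⟩ : Fin n) (1 : ℂ)) ∈ (⊥ : Submodule ℂ (Fin n → ℂ)) :=
      (congrArg (fun X : Subrepresentation ρ => X.toSubmodule) hU).le (Submodule.mem_span_singleton_self _)
    simp at this
  · have h := congrArg (fun X : Subrepresentation ρ => Module.finrank ℂ X.toSubmodule) hU
    simp only [U] at h
    rw [finrank_span_singleton (by simp), show (⊤ : Subrepresentation ρ).toSubmodule = ⊤ from rfl,
      finrank_top, Module.finrank_fin_fun] at h
    rw [Representation.char_one, Module.finrank_fin_fun, ← h, Nat.cast_one]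

/-- The degree of an irreducible character divides the index of an abelian normal subgroup. -/
theorem degree_dvd_index {G : Type*} [Group G] [Fintype G] (V : Subgroup G) [V.Normal]
    (hab : ∀ a ∈ V, ∀ b ∈ V, a * b = b * a) {χ : G → ℂ} (hχ : IsIrrCharacter G χ) :
    charDegree χ ∣ V.index := by
  classical
  have := Fintype.ofFinite V
  have hc := isCharacter_of_isIrr hχ
  have hres0 : (fun n : V => χ n) ≠ 0 := fun h => irr_degree_ne_zero hχ (congrFun h 1)
  obtain ⟨θ, hθ⟩ := exists_constituent (isCharacter_restrict hc V) hres0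
  have hθ1 : (θ : V → ℂ) 1 = 1 :=
    apply_one_of_abelian (fun a b => Subtype.ext (hab a a.2 b b.2)) θ.2
  set T := inertia V (θ : V → ℂ) with hT
  have hVT : V ≤ T := le_inertia V (isClassFunction_of_isIrr θ.2)
  have := Fintype.ofFinite T
  obtain ⟨ψ, hψ, hind, hmult, -⟩ := exists_correspondent V θ.2 T hT.symm hVT hχ hθ
  have hover : classInner (resLe hVT ψ) (θ : V → ℂ) ≠ 0 := hmult ▸ hθ
  obtain ⟨e, he⟩ := classInner_natCast (isCharacter_comp (isCharacter_of_isIrr hψ)
    (Subgroup.inclusion hVT)) (isCharacter_of_isIrr θ.2)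
  have he' : classInner (resLe hVT ψ) (θ : V → ℂ) = (e : ℂ) := he
  have hst := restrict_stabilized V θ.2 T hVT (fun t ht => by rwa [hT, mem_inertia] at ht) hψ hover
  have hψ1 : ψ 1 = e := by
    have h1 := congrFun hst 1
    rw [Pi.smul_apply, smul_eq_mul, hθ1, mul_one, he'] at h1
    exact h1
  have : (V.subgroupOf T).Normal := Subgroup.Normal.subgroupOf inferInstance T
  have hdvd : e ∣ (V.subgroupOf T).index := by
    refine ramification_dvd_index (V.subgroupOf T) hψ
      (isIrrCharacter_comp_equiv (Subgroup.subgroupOfEquivOfLe hVT) θ.2) e fun n => ?_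
    have h1 := congrFun hst (Subgroup.subgroupOfEquivOfLe hVT n)
    rw [Pi.smul_apply, smul_eq_mul, he'] at h1
    exact h1
  have hdeg : charDegree χ = T.index * e := by
    have h1 := congrFun hind 1
    rw [indFun_one, hψ1, CharAux.charDegree_eq hc] at h1
    exact_mod_cast h1.symm
  rw [hdeg, ← Subgroup.relIndex_mul_index hVT, mul_comm (V.relIndex T)]
  exact mul_dvd_mul_left _ hdvd

end Cfsg.Agent.Lib.Ito
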