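import Cfsg.Agent.Lib.Char.Orthogonality
import Cfsg.Agent.Lib.CharAux
import Mathlib.Algebra.BigOperators.Fin

/-!
# Convolution of irreducible characters and counting commutators
-/

set_option autoImplicit false

open scoped ComplexConjugate

namespace Cfsg.Agent.Lib.CharCommutator

open Cfsg.Agent.Lib.Char Cfsg.Agent.Lib.CharAux

universe u

variable {G : Type u} [Group G] [Fintype G]

open scoped Classical in
/-- The convolution of two irreducible characters. -/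
theorem sum_mul_apply (χ ψ : IrrCharacter G) (g : G) :
    ∑ x : G, (χ : G → ℂ) x * (ψ : G → ℂ) (x⁻¹ * g) =
      if χ = ψ then (Nat.card G : ℂ) * (χ : G → ℂ) g / (χ : G → ℂ) 1 else 0 := by
  have hχc := isClassFunction_of_isIrr χ.2
  have hψ1 := irr_degree_ne_zero ψ.2
  have hin := classInner_irrCharacter χ ψ
  obtain ⟨n, ρ, hρ, hψ⟩ := ψ.2
  have hf : IsClassFunction G (fun x => (χ : G → ℂ) x⁻¹) := fun a b => by
    simp only
    rw [show (b * a * b⁻¹)⁻¹ = b * a⁻¹ * b⁻¹ by group]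
    exact hχc a⁻¹ b
  obtain ⟨c, hc, hc'⟩ := avgOp_irreducible ρ hf
  have hdim : (Module.finrank ℂ (Fin n → ℂ) : ℂ) = (ψ : G → ℂ) 1 := by
    rw [← hψ, Representation.char_one]
  have hl : ∑ x : G, (χ : G → ℂ) x * (ψ : G → ℂ) (x⁻¹ * g) = c * (ψ : G → ℂ) g := by
    have h := congrArg (fun A => LinearMap.trace ℂ (Fin n → ℂ) (A * ρ g)) hc
    simp only [avgOp, Finset.sum_mul, smul_mul_assoc, one_mul, map_sum, map_smul,
      smul_eq_mul, ← map_mul] at h
    rw [← hψ]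
    rw [show ∑ x : G, (χ : G → ℂ) x * ρ.character (x⁻¹ * g) =
      ∑ x : G, (χ : G → ℂ) x⁻¹ * ρ.character (x * g) from
        Fintype.sum_equiv (Equiv.inv G) _ _ fun x => by simp]
    exact h
  rw [hl]
  rw [hdim, hψ] at hc'
  have hval : ∑ x : G, (χ : G → ℂ) x⁻¹ * (ψ : G → ℂ) x =
      if χ = ψ then (Nat.card G : ℂ) else 0 := by
    rw [classInner, inv_mul_eq_iff_eq_mul₀ (card_ne_zero_complex G)] at hin
    rw [show ∑ x : G, (χ : G → ℂ) x⁻¹ * (ψ : G → ℂ) x =
      ∑ x : G, (χ : G → ℂ) x * conj ((ψ : G → ℂ) x) from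
        Fintype.sum_equiv (Equiv.inv G) _ _ fun x => by
          simp [← char_inv (isCharacter_of_isIrr ψ.2)], hin]
    split_ifs <;> simp
  rw [hval, ← eq_div_iff hψ1] at hc'
  rw [hc']
  split_ifs with h
  · subst h; ring
  · simp

/-- The number of ways of writing `z` as a commutator. -/
noncomputable def commCount (z : G) : ℕ :=
  Nat.card {xy : G × G // xy.1 * xy.2 * xy.1⁻¹ * xy.2⁻¹ = z}

open scoped Classical in
/-- Frobenius: the number of ways of writing `z` as a commutator. -/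
theorem commCount_eq (z : G) :
    (commCount z : ℂ) = (Nat.card G : ℂ) * ∑ χ : IrrCharacter G, (χ : G → ℂ) z / (χ : G → ℂ) 1 := by
  let e : {xy : G × G // xy.1 * xy.2 * xy.1⁻¹ * xy.2⁻¹ = z} ≃
      (Σ x : G, {y : G // y * x⁻¹ * y⁻¹ = x⁻¹ * z}) :=
    { toFun := fun p => ⟨p.1.1, p.1.2, by
        have h := congrArg (fun w => p.1.1⁻¹ * w) p.2
        simpa [mul_assoc] using h⟩
      invFun := fun s => ⟨(s.1, s.2.1), by
        have := s.2.2
        calc s.1 * s.2.1 * s.1⁻¹ * s.2.1⁻¹ = s.1 * (s.2.1 * s.1⁻¹ * s.2.1⁻¹) := by simp [mul_assoc]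
          _ = z := by rw [this]; simp⟩
      left_inv := fun _ => rfl
      right_inv := fun _ => rfl }
  have hterm : ∀ x : G, (Nat.card {y : G // y * x⁻¹ * y⁻¹ = x⁻¹ * z} : ℂ) =
      ∑ χ : IrrCharacter G, (χ : G → ℂ) x * (χ : G → ℂ) (x⁻¹ * z) := by
    intro x
    have horth := sum_irr_mul_conj (x⁻¹ * z) x⁻¹
    rw [show ∑ χ : IrrCharacter G, (χ : G → ℂ) x * (χ : G → ℂ) (x⁻¹ * z) =
      ∑ χ : IrrCharacter G, (χ : G → ℂ) (x⁻¹ * z) * conj ((χ : G → ℂ) x⁻¹) from
        Finset.sum_congr rfl fun χ _ => by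
          rw [← char_inv (isCharacter_of_isIrr χ.2), inv_inv, mul_comm], horth]
    by_cases hc : IsConj (x⁻¹ * z) x⁻¹
    · rw [if_pos hc]
      obtain ⟨k, hk⟩ := isConj_iff.1 hc.symm
      have hcard : Nat.card {y : G // y * x⁻¹ * y⁻¹ = x⁻¹ * z} =
          Nat.card (Subgroup.centralizer ({x⁻¹} : Set G)) := by
        refine Nat.card_congr (Equiv.subtypeEquiv (Equiv.mulLeft k⁻¹) fun y => ?_)
        show _ ↔ k⁻¹ * y ∈ Subgroup.centralizer ({x⁻¹} : Set G)
        rw [Subgroup.mem_centralizer_singleton_iff, ← hk]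
        constructor
        · intro h
          calc k⁻¹ * y * x⁻¹ = k⁻¹ * (y * x⁻¹ * y⁻¹) * y := by group
            _ = x⁻¹ * (k⁻¹ * y) := by rw [h]; group
        · intro h
          calc y * x⁻¹ * y⁻¹ = k * (k⁻¹ * y * x⁻¹) * y⁻¹ := by group
            _ = k * x⁻¹ * k⁻¹ := by rw [h]; group
      rw [hcard, ← card_conj_mul_card_centralizer x⁻¹, Nat.cast_mul, mul_div_cancel_left₀ _
        (Nat.cast_ne_zero.2 (Finset.card_ne_zero.2 ⟨x⁻¹, by simpa using IsConj.refl x⁻¹⟩))]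
    · rw [if_neg hc]
      haveI : IsEmpty {y : G // y * x⁻¹ * y⁻¹ = x⁻¹ * z} :=
        ⟨fun y => hc (IsConj.symm (isConj_iff.2 ⟨y.1, y.2⟩))⟩
      simp
  rw [commCount, Nat.card_congr e, Nat.card_sigma, Nat.cast_sum,
    Finset.sum_congr rfl fun x _ => hterm x, Finset.sum_comm, Finset.mul_sum]
  refine Finset.sum_congr rfl fun χ _ => ?_
  rw [sum_mul_apply, if_pos rfl, mul_div_assoc]

/-- The number of ways of writing `g` as a product of two commutators. -/
theorem sum_commCount_mul (g : G) :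
    ((∑ h : G, commCount h * commCount (h⁻¹ * g) : ℕ) : ℂ) =
      (Nat.card G : ℂ) ^ 3 * ∑ χ : IrrCharacter G, (χ : G → ℂ) g / (χ : G → ℂ) 1 ^ 3 := by
  classical
  rw [Nat.cast_sum]
  simp only [Nat.cast_mul, commCount_eq, Finset.mul_sum, Finset.sum_mul]
  rw [Finset.sum_comm]
  refine Finset.sum_congr rfl fun ψ _ => ?_
  rw [Finset.sum_comm]
  rw [Finset.sum_congr rfl (g := fun χ : IrrCharacter G =>
    (Nat.card G : ℂ) ^ 2 / ((χ : G → ℂ) 1 * (ψ : G → ℂ) 1) *
      ∑ h : G, (χ : G → ℂ) h * (ψ : G → ℂ) (h⁻¹ * g)) fun χ _ => ?_]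
  · rw [Finset.sum_eq_single ψ (fun χ _ h => by rw [sum_mul_apply, if_neg h, mul_zero]) (by simp),
      sum_mul_apply, if_pos rfl]
    have := irr_degree_ne_zero ψ.2
    field_simp
  · rw [Finset.mul_sum]
    refine Finset.sum_congr rfl fun h _ => ?_
    have := irr_degree_ne_zero ψ.2
    have := irr_degree_ne_zero χ.2
    field_simp

end Cfsg.Agent.Lib.CharCommutator
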