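import Cfsg.Agent.Lib.Classical.QuadSplit

/-! Witt extension for quadratic forms with non-degenerate polar form, any characteristic. -/

set_option autoImplicit false

namespace Cfsg.Agent.Lib.QuadWitt

open QuadraticMap
open Cfsg.Agent.Lib.Classical.Quad

universe u v

variable {F : Type u} [Field F]

/-- Cancellation of one hyperbolic plane. -/
theorem cancel_hypExt {V V' : Type v} [AddCommGroup V] [Module F V] [FiniteDimensional F V]
    [AddCommGroup V'] [Module F V'] [FiniteDimensional F V']
    {Q : QuadraticForm F V} {R : QuadraticForm F V'} (hns : NonSing Q)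
    (hd : Module.finrank F V = Module.finrank F V')
    (e : ((F × F) × V) ≃ₗ[F] ((F × F) × V')) (he : ∀ p, hypExt R (e p) = hypExt Q p) :
    ∃ e' : V ≃ₗ[F] V', ∀ v, R (e' v) = Q v := by
  let e₀ : (F × F) × V := ((1, 0), 0)
  let f₀ : (F × F) × V := ((0, 1), 0)
  let e₁ : (F × F) × V' := ((1, 0), 0)
  let f₁ : (F × F) × V' := ((0, 1), 0)
  have hpol : ∀ p r, polar (hypExt R) (e p) (e r) = polar (hypExt Q) p r := fun p r => by
    simp [polar, ← map_add, he]
  have hnsR : NonSing (hypExt R) := by
    intro x hx hQx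
    have hx' : e.symm x ≠ 0 := by simpa using hx
    obtain ⟨w, hw⟩ := nonSing_hypExt hns (e.symm x) hx' (by rw [← he, e.apply_symm_apply, hQx])
    exact ⟨e w, by rw [← hpol, e.apply_symm_apply] at hw; exact hw⟩
  obtain ⟨γ, hγ, hγe, hγf⟩ := exists_map_pair hnsR (x := e e₀) (y := e f₀) (x' := e₁) (y' := f₁)
    (by rw [he]; simp [e₀]) (by rw [he]; simp [f₀])
    (by rw [hpol]; simp [polar_hypExt, e₀, f₀, polar_zero_left])
    (by simp [e₁]) (by simp [f₁]) (by simp [polar_hypExt, e₁, f₁, polar_zero_left])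
  set k := e.trans γ with hk
  have hkQ : ∀ p, hypExt R (k p) = hypExt Q p := fun p => by
    rw [hk, LinearEquiv.trans_apply, hγ, he]
  have hkpol : ∀ p r, polar (hypExt R) (k p) (k r) = polar (hypExt Q) p r := fun p r => by
    simp [polar, ← map_add, hkQ]
  have hke : k e₀ = e₁ := hγe
  have hkf : k f₀ = f₁ := hγf
  have hperp : ∀ v, (k ((0, 0), v)).1 = (0, 0) := by
    intro v
    have h1 := hkpol e₀ ((0, 0), v)
    have h2 := hkpol f₀ ((0, 0), v)
    rw [hke] at h1
    rw [hkf] at h2
    simp [polar_hypExt, e₀, f₀, e₁, f₁, polar_zero_left] at h1 h2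
    exact Prod.ext h2 h1
  let L : V →ₗ[F] V' := (LinearMap.snd F (F × F) V').comp (k.toLinearMap.comp (LinearMap.inr F (F × F) V))
  have hL : ∀ v, k ((0, 0), v) = ((0, 0), L v) := fun v => Prod.ext (hperp v) rfl
  have hinj : Function.Injective L := by
    intro v w h
    have : k ((0, 0), v) = k ((0, 0), w) := by rw [hL, hL, h]
    exact congrArg Prod.snd (k.injective this)
  refine ⟨LinearEquiv.ofBijective L ⟨hinj, (LinearMap.injective_iff_surjective_of_finrank_eq_finrank hd).1 hinj⟩,
    fun v => ?_⟩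
  have := hkQ ((0, 0), v)
  rw [hL] at this
  show R (L v) = Q v
  simpa using this

theorem nonSing_of_nondeg {V : Type v} [AddCommGroup V] [Module F V] {Q : QuadraticForm F V}
    (h : ∀ x, x ≠ 0 → ∃ y, polar Q x y ≠ 0) : NonSing Q := fun x hx _ => h x hx

theorem nonSing_splitQ' {V : Type v} [AddCommGroup V] [Module F V] {Q : QuadraticForm F V}
    (h : NonSing Q) : ∀ m, NonSing (splitQ m Q)
  | 0 => by
    intro x hx hQx
    have hx' : zeroEquiv x ≠ 0 := fun h0 => hx (zeroEquiv.injective (h0.trans (map_zero _).symm))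
    obtain ⟨w, hw⟩ := h _ hx' (by simpa [splitQ_apply, zeroEquiv] using hQx)
    exact ⟨zeroEquiv.symm w, by simpa [polar, splitQ_apply, zeroEquiv] using hw⟩
  | m + 1 => by
    intro x hx hQx
    have hQ' : hypExt (splitQ m Q) ((succEquiv m).symm x) = 0 := by
      rw [← splitQ_succ, LinearEquiv.apply_symm_apply, hQx]
    obtain ⟨w, hw⟩ := nonSing_hypExt (nonSing_splitQ' h m) _ (by simpa using hx) hQ'
    refine ⟨succEquiv m w, ?_⟩
    rw [show polar (splitQ (m + 1) Q) x (succEquiv m w) = polar (hypExt (splitQ m Q)) ((succEquiv m).symm x) w by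
      simp only [polar, ← splitQ_succ, map_add, LinearEquiv.apply_symm_apply]]
    exact hw

/-- Cancellation of hyperbolic planes. -/
theorem cancel_splitQ {V V' : Type u} [AddCommGroup V] [Module F V] [FiniteDimensional F V]
    [AddCommGroup V'] [Module F V'] [FiniteDimensional F V']
    {Q : QuadraticForm F V} {R : QuadraticForm F V'} (hns : NonSing Q)
    (hd : Module.finrank F V = Module.finrank F V') : ∀ (m : ℕ)
    (e : (((Fin m → F) × (Fin m → F)) × V) ≃ₗ[F] (((Fin m → F) × (Fin m → F)) × V')),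
    (∀ p, splitQ m R (e p) = splitQ m Q p) → ∃ e' : V ≃ₗ[F] V', ∀ v, R (e' v) = Q v
  | 0, e, he => ⟨zeroEquiv.symm.trans (e.trans zeroEquiv), fun v => by
      have := he (zeroEquiv.symm v)
      simp only [splitQ_apply, Finset.univ_eq_empty, Finset.sum_empty, zero_add] at this
      exact this⟩
  | m + 1, e, he => by
    obtain ⟨e', he'⟩ := cancel_hypExt (Q := splitQ m Q) (R := splitQ m R) (nonSing_splitQ' hns m)
      (by simp [hd]) ((succEquiv m).trans (e.trans (succEquiv m).symm)) (fun p => by
        rw [← splitQ_succ, ← splitQ_succ]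
        simp [he])
    exact cancel_splitQ hns hd m e' he'

/-- Witt extension from a non-degenerate subspace. -/
theorem witt_quad {V : Type u} [AddCommGroup V] [Module F V] [FiniteDimensional F V]
    (Q : QuadraticForm F V) (hQ : (polarBilin Q).Nondegenerate) (P : Submodule F V)
    (hP : ∀ x ∈ P, (∀ y ∈ P, polar Q x y = 0) → x = 0)
    (φ : P →ₗ[F] V) (hφ : ∀ x, Q (φ x) = Q x) :
    ∃ γ : V ≃ₗ[F] V, (∀ v, Q (γ v) = Q v) ∧ ∀ x : P, γ x = φ x := by
  classical
  set β : LinearMap.BilinForm F V := polarBilin Q with hβdef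
  have hβ : ∀ x y, β x y = polar Q x y := fun x y => rfl
  have hrefl : β.IsRefl := fun x y h => by rw [hβ, polar_comm]; exact h
  have hφp : ∀ x y : P, polar Q (φ x) (φ y) = polar Q x y := fun x y => by
    simp [polar, ← map_add, hφ]
  have hφinj : Function.Injective φ := by
    rw [injective_iff_map_eq_zero]
    intro x hx
    refine Subtype.ext (hP x x.2 fun y hy => ?_)
    rw [← hφp x ⟨y, hy⟩, hx, polar_zero_left]
  set P' := LinearMap.range φ with hP'def
  have hPd : Disjoint P (β.orthogonal P) := by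
    rw [Submodule.disjoint_def]
    intro x hx hxo
    refine hP x hx fun y hy => ?_
    rw [polar_comm]
    exact LinearMap.BilinForm.mem_orthogonal_iff.1 hxo y hy
  have hP'd : Disjoint P' (β.orthogonal P') := by
    rw [Submodule.disjoint_def]
    rintro _ ⟨x, rfl⟩ hxo
    have : (x : V) = 0 := hP x x.2 fun y hy => by
      rw [← hφp x ⟨y, hy⟩, polar_comm]
      exact LinearMap.BilinForm.mem_orthogonal_iff.1 hxo _ ⟨_, rfl⟩
    rw [show x = 0 from Subtype.ext this, map_zero]
  set W := β.orthogonal P with hW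
  set W' := β.orthogonal P' with hW'
  have hWd : Module.finrank F W = Module.finrank F W' := by
    rw [hW, hW', LinearMap.BilinForm.finrank_orthogonal hQ, LinearMap.BilinForm.finrank_orthogonal hQ,
      hP'def, LinearMap.finrank_range_of_inj hφinj]
  have hWc : IsCompl P W := by
    refine ⟨hPd, codisjoint_iff.2 (Submodule.eq_top_of_finrank_eq ?_)⟩
    have h1 := Submodule.finrank_sup_add_finrank_inf_eq P W
    rw [hPd.eq_bot, finrank_bot] at h1
    have h3 : Module.finrank F W = Module.finrank F V - Module.finrank F P := LinearMap.BilinForm.finrank_orthogonal hQ P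
    have h2 := Submodule.finrank_le P
    omega
  have hW'c : IsCompl P' W' := by
    refine ⟨hP'd, codisjoint_iff.2 (Submodule.eq_top_of_finrank_eq ?_)⟩
    have h1 := Submodule.finrank_sup_add_finrank_inf_eq P' W'
    rw [hP'd.eq_bot, finrank_bot] at h1
    have h3 : Module.finrank F W' = Module.finrank F V - Module.finrank F P' := LinearMap.BilinForm.finrank_orthogonal hQ P'
    have h2 := Submodule.finrank_le P'
    omega
  -- `P ⊥ (-P)` is hyperbolic
  set k := Module.finrank F P with hk
  let b := Module.finBasis F P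
  obtain ⟨Mb, hMb⟩ := LinearMap.BilinMap.toQuadraticMap_surjective (Q.comp P.subtype)
  let βP : LinearMap.BilinForm F P := β.restrict P
  have hβP : βP.Nondegenerate := by
    refine ⟨fun x hx => Subtype.ext (hP x x.2 fun y hy => hx ⟨y, hy⟩), fun x hx => Subtype.ext (hP x x.2 fun y hy => ?_)⟩
    rw [polar_comm]; exact hx ⟨y, hy⟩
  let T : P →ₗ[F] P := (βP.toDual hβP).symm.toLinearMap ∘ₗ (-Mb)
  have hT : ∀ z : P, polar Q (T z : V) (z : V) = -Q z := by
    intro z
    have := LinearMap.BilinForm.apply_toDual_symm_apply (hB := hβP) ((-Mb) z) z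
    change polar Q (T z : V) (z : V) = (-Mb) z z at this
    rw [this, LinearMap.neg_apply, LinearMap.neg_apply]
    have h2 := congrArg (fun q : QuadraticForm F P => q z) hMb
    simp only [LinearMap.BilinMap.toQuadraticMap_apply, QuadraticMap.comp_apply, Submodule.subtype_apply] at h2
    rw [h2]
  let coord : P →ₗ[F] (Fin k → F) := LinearMap.pi fun i => -(βP.flip (b i))
  have hcoord : Function.Bijective coord := by
    have hinj : Function.Injective coord := by
      rw [injective_iff_map_eq_zero]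
      intro x hx
      refine hβP.1 x fun y => ?_
      have : βP x = 0 := b.ext fun i => by
        have := congrFun hx i
        simpa [coord] using this
      rw [this]; rfl
    exact ⟨hinj, (LinearMap.injective_iff_surjective_of_finrank_eq_finrank (by rw [Module.finrank_fin_fun])).1 hinj⟩
  let coordE := LinearEquiv.ofBijective coord hcoord
  -- the double
  let U : QuadraticForm F (V × P) := Q.prod (-(Q.comp P.subtype))
  have hU : ∀ p : V × P, U p = Q p.1 - Q p.2 := fun p => by
    simp [U, sub_eq_add_neg]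
  -- coordinates on the double from any copy `ψ` of `P` with complement `W₀`
  have build : ∀ (ψ : P →ₗ[F] V) (W₀ : Submodule F V), (∀ x, Q (ψ x) = Q x) →
      (∀ x, ∀ w ∈ W₀, polar Q (ψ x) w = 0) → Function.Injective ψ → IsCompl (LinearMap.range ψ) W₀ →
      ∃ Θ : (((Fin k → F) × (Fin k → F)) × W₀) ≃ₗ[F] V × P, ∀ r, U (Θ r) = splitQ k (Q.comp W₀.subtype) r := by
    intro ψ W₀ hψ hψW hψi hc
    let Z : ((Fin k → F) × (Fin k → F)) × W₀ →ₗ[F] P :=
      b.equivFun.symm.toLinearMap ∘ₗ (LinearMap.snd F _ _) ∘ₗ (LinearMap.fst F _ _)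
    let X : ((Fin k → F) × (Fin k → F)) × W₀ →ₗ[F] P :=
      coordE.symm.toLinearMap ∘ₗ (LinearMap.fst F _ _) ∘ₗ (LinearMap.fst F _ _)
    let Θ : ((Fin k → F) × (Fin k → F)) × W₀ →ₗ[F] V × P :=
      (ψ ∘ₗ (X + T ∘ₗ Z) + W₀.subtype ∘ₗ LinearMap.snd F _ _).prod (X + T ∘ₗ Z + Z)
    have hΘ : ∀ r, Θ r = (ψ (X r + T (Z r)) + (r.2 : V), X r + T (Z r) + Z r) := fun r => rfl
    have hinj : Function.Injective Θ := by
      rw [injective_iff_map_eq_zero]
      intro r hr
      rw [hΘ] at hr
      obtain ⟨h1, h2⟩ := Prod.ext_iff.1 hr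
      have h3 : (r.2 : V) = 0 := by
        have : (r.2 : V) = ψ (-(X r + T (Z r))) := by rw [map_neg]; exact eq_neg_of_add_eq_zero_right h1
        exact Submodule.disjoint_def.1 hc.disjoint _ (this ▸ LinearMap.mem_range_self ψ _) r.2.2
      simp only [h3, add_zero, Prod.fst_zero] at h1
      have h4 : X r + T (Z r) = 0 := hψi (h1.trans (map_zero ψ).symm)
      simp only [h4, zero_add, Prod.snd_zero] at h2
      have h5 : X r = 0 := by simpa [h2] using h4
      have h6 : r.1.2 = 0 := by
        have : b.equivFun.symm r.1.2 = 0 := h2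
        exact b.equivFun.symm.injective (this.trans (map_zero _).symm)
      have h7 : r.1.1 = 0 := by
        have : coordE.symm r.1.1 = 0 := h5
        exact coordE.symm.injective (this.trans (map_zero _).symm)
      exact Prod.ext (Prod.ext h7 h6) (Subtype.ext h3)
    have hdim : Module.finrank F (((Fin k → F) × (Fin k → F)) × W₀) = Module.finrank F (V × P) := by
      have h1 := Submodule.finrank_add_eq_of_isCompl hc
      rw [LinearMap.finrank_range_of_inj hψi] at h1
      simp only [Module.finrank_prod, Module.finrank_fin_fun]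
      omega
    refine ⟨LinearEquiv.ofBijective Θ ⟨hinj, (LinearMap.injective_iff_surjective_of_finrank_eq_finrank hdim).1 hinj⟩,
      fun r => ?_⟩
    show U (Θ r) = _
    rw [hΘ, hU, splitQ_apply, QuadraticMap.comp_apply, Submodule.subtype_apply,
      QuadraticMap.map_add ⇑Q (ψ _) (r.2 : V), hψW _ _ r.2.2, hψ]
    have e1 : Q ((X r + T (Z r) + Z r : P) : V)
        = Q ((X r + T (Z r) : P) : V) + polar Q (X r : V) (Z r : V) := by
      rw [Submodule.coe_add (X r + T (Z r)) (Z r), QuadraticMap.map_add ⇑Q _ ((Z r : P) : V),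
        Submodule.coe_add, polar_add_left, hT]
      ring
    have e2 : ∑ i, r.1.1 i * r.1.2 i = -polar Q (X r : V) (Z r : V) := by
      have hx : r.1.1 = coord (X r) := (coordE.apply_symm_apply r.1.1).symm
      have hz : r.1.2 = b.equivFun (Z r) := (b.equivFun.apply_symm_apply r.1.2).symm
      have hb2 : βP (X r) (Z r) = ∑ i, βP (X r) (b i) * r.1.2 i := by
        conv_lhs => rw [← b.sum_equivFun (Z r)]
        rw [map_sum]
        refine Finset.sum_congr rfl fun i _ => ?_
        rw [map_smul, smul_eq_mul, mul_comm, hz]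
      show _ = -(βP (X r) (Z r))
      rw [hb2, ← Finset.sum_neg_distrib]
      refine Finset.sum_congr rfl fun i _ => ?_
      rw [hx]
      simp [coord]
    rw [e1, e2]
    ring
  obtain ⟨Θ₁, hΘ₁⟩ := build P.subtype W (fun x => rfl)
    (fun x w hw => LinearMap.BilinForm.mem_orthogonal_iff.1 hw x x.2) Subtype.val_injective
    (by rwa [Submodule.range_subtype])
  obtain ⟨Θ₂, hΘ₂⟩ := build φ W' hφ
    (fun x w hw => LinearMap.BilinForm.mem_orthogonal_iff.1 hw _ ⟨x, rfl⟩) hφinj hW'c
  have hnsW : NonSing (Q.comp W.subtype) := by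
    refine nonSing_of_nondeg fun x hx => ?_
    by_contra hcon
    push Not at hcon
    refine hx (Subtype.ext (hQ.1 (x : V) fun y => ?_))
    obtain ⟨y1, hy1, y2, hy2, rfl⟩ := Submodule.mem_sup.1 (hWc.sup_eq_top ▸ Submodule.mem_top (x := y))
    rw [hβ, polar_add_right, polar_comm, show polar Q y1 (x : V) = 0 from LinearMap.BilinForm.mem_orthogonal_iff.1 x.2 y1 hy1,
      zero_add]
    have := hcon ⟨y2, hy2⟩
    simpa [polar] using this
  obtain ⟨ω, hω⟩ := cancel_splitQ hnsW hWd k (Θ₁.trans Θ₂.symm) (fun r => by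
    rw [← hΘ₂, LinearEquiv.trans_apply, LinearEquiv.apply_symm_apply, hΘ₁])
  let γ : V ≃ₗ[F] V := (Submodule.prodEquivOfIsCompl P W hWc).symm ≪≫ₗ
    ((LinearEquiv.ofInjective φ hφinj).prodCongr ω) ≪≫ₗ Submodule.prodEquivOfIsCompl P' W' hW'c
  have hγ : ∀ (x : P) (w : W), γ ((x : V) + w) = φ x + (ω w : V) := by
    intro x w
    have : (Submodule.prodEquivOfIsCompl P W hWc).symm ((x : V) + w) = (x, w) := by
      rw [LinearEquiv.symm_apply_eq]; rfl
    simp only [γ, LinearEquiv.trans_apply, this]
    rfl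
  refine ⟨γ, fun v => ?_, fun x => ?_⟩
  · obtain ⟨⟨x, w⟩, rfl⟩ := (Submodule.prodEquivOfIsCompl P W hWc).surjective v
    show Q (γ ((x : V) + w)) = Q ((x : V) + w)
    rw [hγ, QuadraticMap.map_add ⇑Q, QuadraticMap.map_add ⇑Q (x : V),
      show polar Q (φ x) (ω w : V) = 0 from LinearMap.BilinForm.mem_orthogonal_iff.1 (ω w).2 _ ⟨x, rfl⟩,
      show polar Q (x : V) (w : V) = 0 from LinearMap.BilinForm.mem_orthogonal_iff.1 w.2 _ x.2, hφ]
    have := hω w
    simp only [QuadraticMap.comp_apply, Submodule.subtype_apply] at this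
    rw [this]
  · have := hγ x 0
    simpa using this

end Cfsg.Agent.Lib.QuadWitt
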