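import Cfsg.Agent.Lib.InvolNorm

/-! Semisimple isometries conjugate in `GL` are conjugate by a map that is isometric away from the eigenvalues `±1`. -/

set_option autoImplicit false

namespace Cfsg.Agent.Lib.SemisimpleConj

open Polynomial

variable {F V : Type*} [Field F] [AddCommGroup V] [Module F V] [FiniteDimensional F V]
variable (β : LinearMap.BilinForm F V)

section adjoint

variable (hβ : β.Nondegenerate)

/-- The adjoint. -/
noncomputable def adj (φ : Module.End F V) : Module.End F V := β.leftAdjointOfNondegenerate hβ φ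

theorem adj_apply (φ : Module.End F V) (x y : V) : β (adj β hβ φ x) y = β x (φ y) :=
  β.isAdjointPairLeftAdjointOfNondegenerate hβ φ x y

include hβ in
theorem ext_left {φ ψ : Module.End F V} (h : ∀ x y, β (φ x) y = β (ψ x) y) : φ = ψ :=
  LinearMap.ext fun x => sub_eq_zero.1 (hβ.1 _ fun y => by rw [map_sub, LinearMap.sub_apply, h, sub_self])

theorem adj_mul (φ ψ : Module.End F V) : adj β hβ (φ * ψ) = adj β hβ ψ * adj β hβ φ :=
  ext_left β hβ fun x y => by
    rw [adj_apply, Module.End.mul_apply, Module.End.mul_apply, adj_apply, adj_apply]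

theorem adj_add (φ ψ : Module.End F V) : adj β hβ (φ + ψ) = adj β hβ φ + adj β hβ ψ :=
  ext_left β hβ fun x y => by
    simp only [adj_apply, LinearMap.add_apply, map_add]

theorem adj_smul (c : F) (φ : Module.End F V) : adj β hβ (c • φ) = c • adj β hβ φ :=
  ext_left β hβ fun x y => by
    simp only [adj_apply, LinearMap.smul_apply, map_smul]

theorem adj_one : adj β hβ 1 = 1 :=
  ext_left β hβ fun x y => by rw [adj_apply, Module.End.one_apply, Module.End.one_apply]

theorem adj_sub (φ ψ : Module.End F V) : adj β hβ (φ - ψ) = adj β hβ φ - adj β hβ ψ := by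
  rw [eq_sub_iff_add_eq, ← adj_add, sub_add_cancel]

theorem adj_pow (φ : Module.End F V) (k : ℕ) : adj β hβ (φ ^ k) = adj β hβ φ ^ k := by
  induction k with
  | zero => rw [pow_zero, pow_zero, adj_one]
  | succ k ih => rw [pow_succ, adj_mul, ih, pow_succ']

theorem adj_adj {s : F} (hs : ∀ x y, β x y = s * β y x) (φ : Module.End F V) :
    adj β hβ (adj β hβ φ) = φ :=
  ext_left β hβ fun x y => by rw [adj_apply, hs, adj_apply, ← hs]

theorem adj_eq_inv (A A' : Module.End F V) (hA : ∀ x y, β (A x) (A y) = β x y) (h : A * A' = 1) :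
    adj β hβ A = A' :=
  ext_left β hβ fun x y => by
    rw [adj_apply]
    conv_lhs => rw [show x = A (A' x) by rw [← Module.End.mul_apply, h, Module.End.one_apply]]
    exact hA _ _

end adjoint

/-- A finite monoid element has an idempotent positive even power. -/
theorem exists_idem {M : Type*} [Monoid M] [Finite M] (T : M) :
    ∃ N, 2 ≤ N ∧ Even N ∧ T ^ N * T ^ N = T ^ N := by
  obtain ⟨i, j, hij, h⟩ := Finite.exists_ne_map_eq_of_infinite (fun k : ℕ => T ^ k)
  wlog hlt : i < j generalizing i j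
  · exact this j i (Ne.symm hij) h.symm (by omega)
  obtain ⟨d, rfl⟩ : ∃ d, j = i + d := ⟨j - i, by omega⟩
  have hper : ∀ n k, i ≤ n → T ^ (n + k * d) = T ^ n := by
    intro n k hn
    induction k with
    | zero => simp
    | succ k ih =>
      obtain ⟨r, rfl⟩ := Nat.exists_eq_add_of_le hn
      rw [show i + r + (k + 1) * d = (i + d) + (r + k * d) by ring, pow_add, ← h, ← pow_add,
        show i + (r + k * d) = i + r + k * d by ring, ih]
  have hd : 0 < d := by omega
  refine ⟨2 * ((i + 1) * d), ?_, ⟨(i + 1) * d, two_mul _⟩, ?_⟩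
  · nlinarith
  · rw [← pow_add]
    have hi : i ≤ 2 * ((i + 1) * d) := by nlinarith
    conv_lhs => rw [show 2 * ((i + 1) * d) + 2 * ((i + 1) * d) = 2 * ((i + 1) * d) + (2 * (i + 1)) * d by ring]
    exact hper _ _ hi

/-- `g` can be corrected to be isometric on the range of an idempotent of `F[A]` outside of which
`A ^ 2 = 1`. -/
theorem exists_iso_part [Finite F] [Finite V] (hβ : β.Nondegenerate) {s : F} (hs : ∀ x y, β x y = s * β y x)
    (A B : V ≃ₗ[F] V) (hA : ∀ x y, β (A x) (A y) = β x y) (hB : ∀ x y, β (B x) (B y) = β x y)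
    (o : ℕ) (ho : (o : F) ≠ 0) (hAo : A ^ o = 1)
    (g : V ≃ₗ[F] V) (hg : ∀ x, g (A x) = B (g x)) :
    ∃ (g₁ : V ≃ₗ[F] V) (e M : Module.End F V), (∀ x, g₁ (A x) = B (g₁ x)) ∧
      (∀ x, e (e x) = e x) ∧ (∀ x, e (A x) = A (e x)) ∧ (∀ x y, β (e x) y = β x (e y)) ∧
      (∀ x y, β (g₁ x) (g₁ (e y)) = β x (e y)) ∧
      (∀ x, e x = A (M (e x)) - M (e x)) ∧ (∀ x, M (e x) = e (M (e x))) ∧
      (∀ x, A (A (x - e x)) = x - e x) := by
  classical
  set a : Module.End F V := (A : V →ₗ[F] V) with ha
  set a' : Module.End F V := (A.symm : V →ₗ[F] V) with ha'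
  have haa : a * a' = 1 := LinearMap.ext A.apply_symm_apply
  have haa' : a' * a = 1 := LinearMap.ext A.symm_apply_apply
  have hada : adj β hβ a = a' := adj_eq_inv β hβ a a' hA haa
  set T := a - a' with hT
  haveI : Finite (Module.End F V) := Finite.of_injective _ DFunLike.coe_injective
  obtain ⟨N, hN2, hNe, hidem⟩ := exists_idem T
  set e := T ^ N with he
  have hca : Commute a a' := haa.trans haa'.symm
  have hTa : Commute T a := (Commute.refl a).sub_left hca.symm
  have hadT : adj β hβ T = -T := by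
    rw [hT, adj_sub, hada, ← hada, adj_adj β hβ hs, neg_sub]
  have hade : adj β hβ e = e := by rw [he, adj_pow, hadT, hNe.neg_pow]
  -- `F[a]` is reduced
  have hao : a ^ o = 1 := by
    rw [← show ((A ^ o : V ≃ₗ[F] V) : Module.End F V) = a ^ o from
      map_pow (LinearEquiv.automorphismGroup.toLinearMapMonoidHom) A o, hAo]
    rfl
  have hsq : Squarefree (minpoly F a) :=
    Squarefree.squarefree_of_dvd (minpoly.dvd F a (show aeval a ((X : F[X]) ^ o - 1) = 0 by simp [hao]))
      ((by simpa using Polynomial.separable_X_pow_sub_C (1 : F) ho one_ne_zero :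
        (X ^ o - 1 : F[X]).Separable)).squarefree
  have ho0 : o ≠ 0 := fun h => ho (by simp [h])
  obtain ⟨k, rfl⟩ : ∃ k, o = k + 1 := ⟨o - 1, by omega⟩
  have hak : a' = a ^ k := by
    calc a' = a' * a ^ (k + 1) := by rw [hao, mul_one]
      _ = a ^ k := by rw [pow_succ', ← mul_assoc, haa', one_mul]
  have hTe : T * e = T := by
    have hTp : T = aeval a (X - X ^ k : F[X]) := by rw [map_sub, map_pow, aeval_X, ← hak, hT]
    have hx : aeval a ((X - X ^ k) * (1 - (X - X ^ k : F[X]) ^ N)) = T - T * e := by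
      simp only [map_mul, map_sub, map_one, map_pow, aeval_X, ← hak, ← hT]
      rw [← he, mul_sub, mul_one]
    have hx0 : aeval a (((X - X ^ k) * (1 - (X - X ^ k : F[X]) ^ N)) ^ N) = 0 := by
      rw [map_pow, hx]
      have hc : Commute T (1 - e) := (Commute.one_right T).sub_right ((Commute.refl T).pow_right N)
      rw [show T - T * e = T * (1 - e) by rw [mul_sub, mul_one], hc.mul_pow, ← he,
        show (1 - e) ^ N = 1 - e from IsIdempotentElem.pow_eq (IsIdempotentElem.one_sub hidem) (by omega),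
        mul_sub, mul_one, hidem, sub_self]
    have hdvd := (hsq.dvd_pow_iff_dvd (by omega)).1 (minpoly.dvd F a hx0)
    obtain ⟨c, hc⟩ := hdvd
    have h0 : T - T * e = 0 := by rw [← hx, hc, map_mul, minpoly.aeval, zero_mul]
    exact (sub_eq_zero.1 h0).symm
  -- the commutative algebra generated by `a` and `h`
  set G : Module.End F V := (g : V →ₗ[F] V) with hG
  set b : Module.End F V := (B : V →ₗ[F] V) with hb
  set b' : Module.End F V := (B.symm : V →ₗ[F] V) with hb'
  have hGa : G * a = b * G := LinearMap.ext hg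
  have hadb : adj β hβ b = b' := adj_eq_inv β hβ b b' hB (LinearMap.ext B.apply_symm_apply)
  set h := adj β hβ G * G with hh
  have hha : Commute a h := by
    show a * h = h * a
    have h1 : a' * adj β hβ G = adj β hβ G * b' := by
      rw [← hada, ← hadb, ← adj_mul, ← adj_mul, hGa]
    calc a * h = a * (adj β hβ G * (b' * b) * G) := by
          rw [show b' * b = 1 from LinearMap.ext B.symm_apply_apply, mul_one]
      _ = a * ((adj β hβ G * b') * (b * G)) := by simp only [mul_assoc]
      _ = (a * a') * (adj β hβ G * G) * a := by rw [← h1, ← hGa]; simp only [mul_assoc]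
      _ = h * a := by rw [haa, one_mul]
  set S := Algebra.adjoin F ({a, h} : Set (Module.End F V)) with hS
  have haS : a ∈ S := Algebra.subset_adjoin (Set.mem_insert _ _)
  have hhS : h ∈ S := Algebra.subset_adjoin (Set.mem_insert_of_mem _ rfl)
  have ha'S : a' ∈ S := hak ▸ S.pow_mem haS k
  have hTS : T ∈ S := S.sub_mem haS ha'S
  have heS : e ∈ S := S.pow_mem hTS N
  letI : CommRing S := Algebra.adjoinCommRingOfComm F (by
    rintro x (rfl | rfl) y (rfl | rfl)
    · rfl
    · exact hha.eq
    · exact hha.eq.symm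
    · rfl)
  have hjS : ∀ x ∈ S, adj β hβ x ∈ S := by
    intro x hx
    induction hx using Algebra.adjoin_induction with
    | mem x hx =>
      rcases hx with rfl | rfl
      · rw [hada]; exact ha'S
      · rw [adj_mul, adj_adj β hβ hs]; exact hhS
    | algebraMap r =>
      rw [Algebra.algebraMap_eq_smul_one, adj_smul, adj_one]
      exact S.smul_mem S.one_mem _
    | add x y _ _ hx hy => rw [adj_add]; exact S.add_mem hx hy
    | mul x y _ _ hx hy => rw [adj_mul]; exact S.mul_mem hy hx
  let σ : S ≃+* S :=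
    { toFun := fun x => ⟨adj β hβ x, hjS x x.2⟩
      invFun := fun x => ⟨adj β hβ x, hjS x x.2⟩
      left_inv := fun x => Subtype.ext (adj_adj β hβ hs _)
      right_inv := fun x => Subtype.ext (adj_adj β hβ hs _)
      map_mul' := fun x y => Subtype.ext (by
        show adj β hβ ((x : Module.End F V) * y) = adj β hβ x * adj β hβ y
        rw [adj_mul]
        exact congrArg Subtype.val (mul_comm (⟨_, hjS y y.2⟩ : S) ⟨_, hjS x x.2⟩))
      map_add' := fun x y => Subtype.ext (adj_add β hβ _ _) }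
  let e₀ : S := ⟨e, heS⟩
  let h₀ : S := ⟨h, hhS⟩
  let a₀ : S := ⟨a, haS⟩
  let T₀ : S := ⟨T, hTS⟩
  have hσe : σ e₀ = e₀ := Subtype.ext hade
  set I : Ideal S := Ideal.span {1 - e₀} with hI
  have hmap : I = I.map (σ : S →+* S) := by
    rw [hI, Ideal.map_span, Set.image_singleton, map_sub, map_one]
    congr 2
    exact congrArg (fun t => 1 - t) hσe.symm
  let τ : S ⧸ I ≃+* S ⧸ I := Ideal.quotientEquiv I I σ hmap
  have hτ : ∀ x : S, τ (Ideal.Quotient.mk I x) = Ideal.Quotient.mk I (σ x) := fun x =>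
    Ideal.quotientEquiv_mk I I σ hmap x
  have hττ : ∀ x, τ (τ x) = x := by
    intro x
    obtain ⟨x, rfl⟩ := Ideal.Quotient.mk_surjective x
    rw [hτ, hτ]
    exact congrArg _ (Subtype.ext (adj_adj β hβ hs _))
  haveI : Finite S := Subtype.finite
  haveI : Finite (S ⧸ I) := Finite.of_surjective _ Ideal.Quotient.mk_surjective
  have he1 : Ideal.Quotient.mk I e₀ = 1 := by
    rw [← map_one (Ideal.Quotient.mk I), Ideal.Quotient.eq]
    rw [show e₀ - 1 = -(1 - e₀) by ring]
    exact I.neg_mem (Ideal.subset_span rfl)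
  have hbeta : IsUnit (Ideal.Quotient.mk I a₀ - τ (Ideal.Quotient.mk I a₀)) := by
    rw [hτ, ← map_sub, show a₀ - σ a₀ = T₀ from Subtype.ext (by show a - adj β hβ a = T; rw [hada])]
    have hpow : T₀ ^ (N - 1) * T₀ = e₀ := by
      rw [← pow_succ, Nat.sub_add_cancel (by omega : 1 ≤ N)]
      rfl
    refine IsUnit.of_mul_eq_one (Ideal.Quotient.mk I (T₀ ^ (N - 1))) ?_
    rw [mul_comm, ← map_mul, hpow, he1]
  let gi : Module.End F V := (g.symm : V →ₗ[F] V)
  have hGgi : G * gi = 1 := LinearMap.ext g.apply_symm_apply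
  have hgiG : gi * G = 1 := LinearMap.ext g.symm_apply_apply
  have hhu : IsUnit h := by
    refine ⟨⟨h, gi * adj β hβ gi, ?_, ?_⟩, rfl⟩
    · calc adj β hβ G * G * (gi * adj β hβ gi) = adj β hβ G * (G * gi) * adj β hβ gi := by simp only [mul_assoc]
        _ = 1 := by rw [hGgi, mul_one, ← adj_mul, hgiG, adj_one]
    · calc gi * adj β hβ gi * (adj β hβ G * G) = gi * (adj β hβ gi * adj β hβ G) * G := by simp only [mul_assoc]
        _ = 1 := by rw [← adj_mul, hGgi, adj_one, mul_one, hgiG]
  have hh0 : IsUnit h₀ := by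
    have hinj : Function.Injective (fun x : S => h₀ * x) := fun x y e =>
      Subtype.ext (hhu.mul_left_cancel (congrArg Subtype.val e))
    obtain ⟨y, hy⟩ := Finite.surjective_of_injective hinj 1
    exact IsUnit.of_mul_eq_one y hy
  obtain ⟨c, hcu, hc⟩ := InvolNorm.exists_mul_eq τ hττ (Ideal.Quotient.mk I a₀) hbeta (Ideal.Quotient.mk I h₀)
    (by rw [hτ]; exact congrArg _ (Subtype.ext (by show adj β hβ h = h; rw [hh, adj_mul, adj_adj β hβ hs])))
    (hh0.map _)
  obtain ⟨c₀, rfl⟩ := Ideal.Quotient.mk_surjective c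
  obtain ⟨d, hd⟩ := hcu.exists_right_inv
  obtain ⟨d₀, rfl⟩ := Ideal.Quotient.mk_surjective d
  have hee : e₀ * e₀ = e₀ := Subtype.ext hidem
  have hkill : ∀ x y : S, Ideal.Quotient.mk I x = Ideal.Quotient.mk I y → x * e₀ = y * e₀ := by
    intro x y hxy
    obtain ⟨z, hz⟩ := Ideal.mem_span_singleton'.1 (Ideal.Quotient.eq.1 hxy)
    linear_combination (e₀ : S) * (-hz) - z * hee
  have h1 : c₀ * d₀ * e₀ = 1 * e₀ := hkill _ _ (by rw [map_mul, map_one, hd])
  have h2 : σ c₀ * c₀ * e₀ = h₀ * e₀ := hkill _ _ (by rw [map_mul, ← hτ, hc])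
  set C : S := c₀ * e₀ + (1 - e₀) with hC
  set D : S := d₀ * e₀ + (1 - e₀) with hD
  have hCD : C * D = 1 := by rw [hC, hD]; linear_combination (e₀ : S) * h1 + (2 - c₀ - d₀) * hee
  have hσD : σ D * D * h₀ * e₀ = e₀ := by
    have hσCD : σ C * σ D = 1 := by rw [← map_mul, hCD, map_one]
    have hCC : σ C * C * e₀ = h₀ * e₀ := by
      rw [hC, map_add, map_sub, map_mul, map_one, hσe]
      linear_combination h2 + (σ c₀ * c₀ * e₀ + σ c₀ * c₀ - σ c₀ * e₀ - c₀ * e₀ + e₀ - 1) * hee
    linear_combination (-(σ D * D)) * hCC + (σ C * σ D * e₀) * hCD + (e₀ : S) * hσCD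
  let Dm : Module.End F V := D
  let Cm : Module.End F V := C
  have hDC : Dm * Cm = 1 := congrArg Subtype.val ((mul_comm D C).trans hCD)
  have hCDm : Cm * Dm = 1 := congrArg Subtype.val hCD
  let D' : V ≃ₗ[F] V := LinearEquiv.ofLinear Dm Cm hDC hCDm
  let g₁ : V ≃ₗ[F] V := D'.trans g
  obtain ⟨Mm, hMS, hM⟩ : ∃ Mm ∈ S, e = (a - 1) * Mm := by
    refine ⟨(1 + a') * T ^ (N - 1), S.mul_mem (S.add_mem S.one_mem ha'S) (S.pow_mem hTS _), ?_⟩
    rw [← mul_assoc, show (a - 1) * (1 + a') = T by
      rw [sub_mul, mul_add, mul_one, haa, one_mul, hT]; abel, ← pow_succ', Nat.sub_add_cancel (by omega : 1 ≤ N)]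
  have hae : Commute a e := (hTa.symm).pow_right N
  have heM : Mm * e = e * (Mm * e) := by
    have := congrArg Subtype.val (show (⟨Mm, hMS⟩ : S) * e₀ = e₀ * (⟨Mm, hMS⟩ * e₀) by
      linear_combination (-(⟨Mm, hMS⟩ : S)) * hee)
    exact this
  refine ⟨g₁, e, Mm, ?_, fun x => LinearMap.congr_fun hidem x, fun x => (LinearMap.congr_fun hae.eq x).symm,
    fun x y => by conv_lhs => rw [← hade, adj_apply], ?_, ?_, fun x => LinearMap.congr_fun heM x, ?_⟩
  · intro x
    show g (Dm (A x)) = B (g (Dm x))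
    rw [← hg]
    exact congrArg g (LinearMap.congr_fun (congrArg Subtype.val (mul_comm D a₀)) x)
  · intro x y
    show β (G (Dm x)) (G (Dm (e y))) = β x (e y)
    rw [← adj_apply β hβ G, show adj β hβ G (G (Dm x)) = h (Dm x) from rfl, ← adj_adj β hβ hs (Dm : Module.End F V)]
    have key : adj β hβ (h * Dm) * Dm * e = e := by
      have : adj β hβ (h * Dm) * Dm * e = ((σ (h₀ * D) * D * e₀ : S) : Module.End F V) := rfl
      rw [this, map_mul, show σ h₀ = h₀ from Subtype.ext (by show adj β hβ h = h; rw [hh, adj_mul, adj_adj β hβ hs])]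
      exact congrArg Subtype.val ((by linear_combination hσD) : h₀ * σ D * D * e₀ = e₀)
    rw [adj_adj β hβ hs]
    have := adj_apply β hβ (adj β hβ (h * Dm)) x (Dm (e y))
    rw [adj_adj β hβ hs, Module.End.mul_apply] at this
    rw [this]
    exact congrArg (β x) (LinearMap.congr_fun key y)
  · intro x
    have := LinearMap.congr_fun (show e = a * (Mm * e) - Mm * e by
      conv_lhs => rw [← hidem]
      nth_rw 1 [hM]
      rw [sub_mul, one_mul, sub_mul, mul_assoc]) x
    exact this
  · intro x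
    have h3 : a * a * (1 - e) = 1 - e := by
      have h0 : T * (1 - e) = 0 := by rw [mul_sub, mul_one, hTe, sub_self]
      have h4 := congrArg (a * ·) h0
      simp only [mul_zero] at h4
      rw [← mul_assoc, show a * T = a * a - 1 by rw [hT, mul_sub, haa], sub_mul, one_mul, sub_eq_zero] at h4
      exact h4
    have h5 := LinearMap.congr_fun h3 x
    exact h5

end Cfsg.Agent.Lib.SemisimpleConj

namespace Cfsg.Agent.Lib.SemisimpleConj

variable {F V : Type*} [Field F] [AddCommGroup V] [Module F V]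

/-- The isometry extending a partial intertwiner is an intertwiner. -/
theorem finish (β : LinearMap.BilinForm F V) (hβ : β.Nondegenerate) (A B g γ : V ≃ₗ[F] V)
    (hg : ∀ x, g (A x) = B (g x)) (e : Module.End F V) (ε : F)
    (hee : ∀ x, e (e x) = e x) (heA : ∀ x, e (A x) = A (e x)) (hadj : ∀ x y, β (e x) y = β x (e y))
    (hgi : ∀ x y, β (g x) (g (e y)) = β x (e y)) (hker : ∀ x, A (x - e x) = ε • (x - e x))
    (hγ : ∀ x y, β (γ x) (γ y) = β x y) (hγe : ∀ x, γ (e x) = g (e x)) :
    ∀ x, γ (A x) = B (γ x) := by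
  intro x
  set z := x - e x with hz
  have hez : e z = 0 := by rw [hz, map_sub, hee, sub_self]
  set w := g.symm (γ z) with hw
  have hew : e w = 0 := by
    refine hβ.1 _ fun y => ?_
    rw [hadj, ← hgi, hw, g.apply_symm_apply, ← hγe, hγ, ← hadj, hez, map_zero, LinearMap.zero_apply]
  have hAw : A w = ε • w := by
    have := hker w
    rwa [hew, sub_zero] at this
  have h2 : γ (A z) = B (γ z) := by
    rw [hker x, map_smul, show γ z = g w from (g.apply_symm_apply _).symm, ← hg, hAw, map_smul]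
  have h1 : γ (A (e x)) = B (γ (e x)) := by
    rw [← heA, hγe, hγe, heA, hg]
  have hx : x = e x + z := by rw [hz]; abel
  calc γ (A x) = γ (A (e x)) + γ (A z) := by conv_lhs => rw [hx, map_add, map_add]
    _ = B (γ (e x)) + B (γ z) := by rw [h1, h2]
    _ = B (γ x) := by rw [← map_add, ← map_add, ← hx]

end Cfsg.Agent.Lib.SemisimpleConj
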