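import Mathlib
import Cfsg.Agent.Lib.GS.SubgroupCount

/-! Counting subgroups of prime power order modulo `p ^ 2`: hyperplanes, Hall's enumeration
step, and the reduction from a finite group to a Sylow subgroup. -/

set_option autoImplicit false

namespace Cfsg.Agent.Lib.CountModSq

open Subgroup Finset

variable {G : Type*} [Group G] [Finite G] {p : ℕ} [hp : Fact p.Prime]

/-- the subgroups of order `p ^ k` inside `H` -/
noncomputable def subs (p : ℕ) (H : Subgroup G) (k : ℕ) : Finset (Subgroup G) :=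
  haveI := Fintype.ofFinite (Subgroup G)
  haveI := Classical.decPred fun K : Subgroup G => K ≤ H ∧ Nat.card K = p ^ k
  univ.filter fun K => K ≤ H ∧ Nat.card K = p ^ k

/-- the subgroups of relative index `p` in `H` containing `N` -/
noncomputable def hyper (p : ℕ) (H N : Subgroup G) : Finset (Subgroup G) :=
  haveI := Fintype.ofFinite (Subgroup G)
  haveI := Classical.decPred fun L : Subgroup G => N ≤ L ∧ L ≤ H ∧ L.relIndex H = p
  univ.filter fun L => N ≤ L ∧ L ≤ H ∧ L.relIndex H = p

omit hp in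
theorem mem_subs {H K : Subgroup G} {k : ℕ} : K ∈ subs p H k ↔ K ≤ H ∧ Nat.card K = p ^ k := by
  simp [subs]

omit hp in
theorem mem_hyper {H N L : Subgroup G} :
    L ∈ hyper p H N ↔ N ≤ L ∧ L ≤ H ∧ L.relIndex H = p := by
  simp [hyper]

omit hp in
theorem card_subs_eq (H : Subgroup G) (k : ℕ) :
    (subs p H k).card = Nat.card {K : Subgroup ↥H // Nat.card K = p ^ k} := by
  rw [← Nat.card_eq_finsetCard]
  refine Nat.card_congr
    { toFun := fun K => ⟨K.1.subgroupOf H, by
        rw [Nat.card_congr (subgroupOfEquivOfLe (mem_subs.mp K.2).1).toEquiv]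
        exact (mem_subs.mp K.2).2⟩
      invFun := fun K => ⟨K.1.map H.subtype, mem_subs.mpr ⟨map_subtype_le _, by
        rw [card_map_of_injective H.subtype_injective]; exact K.2⟩⟩
      left_inv := fun K => Subtype.ext (map_subgroupOf_eq_of_le (mem_subs.mp K.2).1)
      right_inv := fun K => Subtype.ext (comap_map_eq_self_of_injective H.subtype_injective _) }

theorem card_subs_modEq_one {H : Subgroup G} {k : ℕ} (h : p ^ k ∣ Nat.card H) :
    (subs p H k).card ≡ 1 [MOD p] := by
  rw [card_subs_eq]; exact GS.SubgroupCount.card_subgroups_modEq_one p k h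

omit hp in
theorem card_subs_top (k : ℕ) :
    (subs p (⊤ : Subgroup G) k).card = Nat.card {K : Subgroup G // Nat.card K = p ^ k} := by
  rw [← Nat.card_eq_finsetCard]
  exact Nat.card_congr (Equiv.subtypeEquivRight fun K => by simp [mem_subs])

/-! ### hyperplanes -/

theorem count_index_p {Q : Type*} [CommGroup Q] [Finite Q] (hexp : ∀ x : Q, x ^ p = 1) :
    (p - 1) * Nat.card {L : Subgroup Q // L.index = p} + 1 = Nat.card Q := by
  classical
  haveI : Module (ZMod p) (Additive Q) := AddCommGroup.zmodModule (n := p) fun x => hexp x.toMul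
  haveI : Finite (Additive Q) := Finite.of_equiv Q Additive.ofMul
  set D := Module.Dual (ZMod p) (Additive Q)
  haveI : Finite D := Finite.of_injective (fun f : D => (f : Additive Q → ZMod p)) DFunLike.coe_injective
  have hD : Nat.card D = Nat.card Q := by
    rw [Nat.card_congr (Additive.ofMul : Q ≃ Additive Q),
      Module.natCard_eq_pow_finrank (K := ZMod p) (V := D),
      Module.natCard_eq_pow_finrank (K := ZMod p) (V := Additive Q), Subspace.dual_finrank_eq]
  let F : D → Subgroup Q := fun f =>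
    { carrier := {x | f (Additive.ofMul x) = 0}
      one_mem' := by simp
      mul_mem' := fun {a b} ha hb => by
        simp only [Set.mem_setOf_eq] at *
        rw [ofMul_mul, map_add, ha, hb, add_zero]
      inv_mem' := fun {a} ha => by
        simp only [Set.mem_setOf_eq] at *
        rw [ofMul_inv, map_neg, ha, neg_zero] }
  have hF : ∀ f : D, f ≠ 0 → (F f).index = p := by
    intro f hf
    let φ : Q →* Multiplicative (ZMod p) :=
      MonoidHom.mk' (fun x => Multiplicative.ofAdd (f (Additive.ofMul x))) fun a b => by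
        rw [ofMul_mul, map_add]; rfl
    have hker : φ.ker = F f := by
      ext x
      exact Iff.rfl
    have hsurj : Function.Surjective φ := by
      intro c
      obtain ⟨v, hv⟩ : ∃ v, f v ≠ 0 := by
        by_contra h
        push Not at h
        exact hf (LinearMap.ext fun v => h v)
      refine ⟨((Multiplicative.toAdd c / f v) • v).toMul, ?_⟩
      show Multiplicative.ofAdd (f ((Multiplicative.toAdd c / f v) • v)) = c
      rw [map_smul, smul_eq_mul, div_mul_cancel₀ _ hv]
      rfl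
    rw [← hker, Subgroup.index_ker, MonoidHom.range_eq_top.mpr hsurj, card_top]
    simp
  have hsurjF : ∀ L : {L : Subgroup Q // L.index = p}, ∃ f : D, f ≠ 0 ∧ F f = L.1 := by
    rintro ⟨L, hL⟩
    have hc : Nat.card (Q ⧸ L) = p := by rw [← Subgroup.index_eq_card, hL]
    haveI : IsCyclic (Q ⧸ L) := isCyclic_of_prime_card hc
    let e : Q ⧸ L ≃* Multiplicative (ZMod p) :=
      mulEquivOfCyclicCardEq (by rw [hc]; simp)
    let ψ : Additive Q →+ ZMod p :=
      AddMonoidHom.mk' (fun v => Multiplicative.toAdd (e (QuotientGroup.mk' L v.toMul))) fun a b => by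
        rw [toMul_add, map_mul, map_mul]; rfl
    have hmem : ∀ x : Q, ψ (Additive.ofMul x) = 0 ↔ x ∈ L := by
      intro x
      show Multiplicative.toAdd (e (QuotientGroup.mk' L x)) = 0 ↔ _
      rw [toAdd_eq_zero, map_eq_one_iff e e.injective]
      exact QuotientGroup.eq_one_iff x
    refine ⟨ψ.toZModLinearMap p, fun h => ?_, Subgroup.ext fun x => hmem x⟩
    have : L = ⊤ := eq_top_iff.mpr fun x _ => (hmem x).mp (LinearMap.congr_fun h (Additive.ofMul x))
    rw [this, index_top] at hL
    exact hp.out.one_lt.ne hL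
  choose g hg0 hgF using hsurjF
  have hbij : Function.Bijective
      (fun x : {L : Subgroup Q // L.index = p} × {c : ZMod p // c ≠ 0} =>
        (⟨x.2.1 • g x.1, smul_ne_zero x.2.2 (hg0 x.1)⟩ : {f : D // f ≠ 0})) := by
    have hFs : ∀ (c : ZMod p) (f : D), c ≠ 0 → F (c • f) = F f := fun c f hc => by
      ext x
      show c • f (Additive.ofMul x) = 0 ↔ f (Additive.ofMul x) = 0
      rw [smul_eq_mul, mul_eq_zero]
      exact ⟨fun h => h.resolve_left hc, Or.inr⟩
    refine ⟨?_, ?_⟩
    · rintro ⟨L, c, hc⟩ ⟨L', c', hc'⟩ h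
      have h' : c • g L = c' • g L' := congrArg Subtype.val h
      have hLL : L = L' := by
        have := congrArg F h'
        rw [hFs _ _ hc, hFs _ _ hc', hgF, hgF] at this
        exact Subtype.ext this
      subst hLL
      have hcc : c = c' := smul_left_injective (ZMod p) (hg0 L) h'
      subst hcc
      rfl
    · rintro ⟨f, hf⟩
      obtain ⟨L, hL⟩ : ∃ L : {L : Subgroup Q // L.index = p}, L.1 = F f := ⟨⟨F f, hF f hf⟩, rfl⟩
      obtain ⟨v, hv⟩ : ∃ v, g L v ≠ 0 := by
        by_contra h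
        push Not at h
        exact hg0 L (LinearMap.ext fun v => h v)
      have hker : ∀ w, g L w = 0 ↔ f w = 0 := by
        intro w
        have := congrArg (fun S : Subgroup Q => w.toMul ∈ S) ((hgF L).trans hL)
        exact Iff.of_eq this
      have hfv : f v ≠ 0 := fun h => hv ((hker v).mpr h)
      refine ⟨⟨L, f v / g L v, div_ne_zero hfv hv⟩, Subtype.ext (LinearMap.ext fun w => ?_)⟩
      have hw : g L (w - (g L w / g L v) • v) = 0 := by
        rw [map_sub, map_smul, smul_eq_mul, div_mul_cancel₀ _ hv, sub_self]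
      have := (hker _).mp hw
      rw [map_sub, map_smul, smul_eq_mul, sub_eq_zero] at this
      show (f v / g L v) • g L w = f w
      rw [this, smul_eq_mul]
      ring
  have h1 := Nat.card_eq_of_bijective _ hbij
  rw [Nat.card_prod] at h1
  have h2 : Nat.card {c : ZMod p // c ≠ 0} = p - 1 := by
    rw [Nat.card_eq_fintype_card, Fintype.card_subtype_compl, Fintype.card_subtype_eq, ZMod.card]
  have h3 : Nat.card {f : D // f ≠ 0} + 1 = Nat.card D := by
    rw [Nat.card_congr (Equiv.refl {f : D // f ≠ 0})]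
    have := Fintype.ofFinite D
    rw [Nat.card_eq_fintype_card, Nat.card_eq_fintype_card, Fintype.card_subtype_compl,
      Fintype.card_subtype_eq]
    have : 1 ≤ Fintype.card D := Fintype.card_pos
    omega
  rw [h2] at h1
  rw [mul_comm, h1, h3, hD]

/-- `N` is a subgroup of `H` with elementary abelian quotient -/
def ElemQuot (p : ℕ) (H N : Subgroup G) : Prop :=
  N ≤ H ∧ (∀ a ∈ H, ∀ b ∈ H, a * b * a⁻¹ * b⁻¹ ∈ N) ∧ ∀ a ∈ H, a ^ p ∈ N

omit [Finite G] hp in
theorem ElemQuot.normal {H N : Subgroup G} (h : ElemQuot p H N) : (N.subgroupOf H).Normal := by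
  refine ⟨fun x hx g => ?_⟩
  rw [mem_subgroupOf] at hx ⊢
  have := N.mul_mem (h.2.1 g g.2 x x.2) hx
  simpa using this

omit [Finite G] hp in
theorem ElemQuot.mono {H N M : Subgroup G} (h : ElemQuot p H N) (hNM : N ≤ M) (hMH : M ≤ H) :
    ElemQuot p M N ∧ ElemQuot p H M :=
  ⟨⟨hNM, fun a ha b hb => h.2.1 a (hMH ha) b (hMH hb), fun a ha => h.2.2 a (hMH ha)⟩,
    hMH, fun a ha b hb => hNM (h.2.1 a ha b hb), fun a ha => hNM (h.2.2 a ha)⟩

theorem card_hyper {H N : Subgroup G} (h : ElemQuot p H N) :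
    (p - 1) * (hyper p H N).card + 1 = N.relIndex H := by
  haveI := h.normal
  letI : CommGroup ((↥H) ⧸ N.subgroupOf H) :=
    { (inferInstance : Group ((↥H) ⧸ N.subgroupOf H)) with
      mul_comm := fun x y => by
        obtain ⟨a, rfl⟩ := QuotientGroup.mk'_surjective _ x
        obtain ⟨b, rfl⟩ := QuotientGroup.mk'_surjective _ y
        have h1 : QuotientGroup.mk' (N.subgroupOf H) (a * b * a⁻¹ * b⁻¹) = 1 :=
          (QuotientGroup.eq_one_iff _).mpr (h.2.1 a a.2 b b.2)
        rw [map_mul, map_mul, map_mul, map_inv, map_inv, mul_inv_eq_one, mul_inv_eq_iff_eq_mul] at h1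
        exact h1 }
  have hexp : ∀ x : (↥H) ⧸ N.subgroupOf H, x ^ p = 1 := by
    intro x
    obtain ⟨a, rfl⟩ := QuotientGroup.mk'_surjective _ x
    rw [← map_pow]
    exact (QuotientGroup.eq_one_iff _).mpr (h.2.2 a a.2)
  show (p - 1) * (hyper p H N).card + 1 = (N.subgroupOf H).index
  rw [Subgroup.index_eq_card, ← count_index_p hexp, ← Nat.card_eq_finsetCard]
  congr 2
  let q : ↥H →* (↥H) ⧸ N.subgroupOf H := QuotientGroup.mk' _
  have hq : Function.Surjective q := QuotientGroup.mk'_surjective _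
  have hker : ∀ L : Subgroup G, N ≤ L → q.ker ≤ L.subgroupOf H := fun L hL => by
    rw [QuotientGroup.ker_mk']; exact subgroupOf_mono _ hL
  refine Nat.card_congr
    { toFun := fun L => ⟨(L.1.subgroupOf H).map q, by
        obtain ⟨hNL, -, hLi⟩ := mem_hyper.mp L.2
        rw [← index_comap_of_surjective _ hq, comap_map_eq_self (hker L.1 hNL)]
        exact hLi⟩
      invFun := fun L => ⟨(L.1.comap q).map H.subtype, mem_hyper.mpr ⟨?_, map_subtype_le _, ?_⟩⟩
      left_inv := fun L => Subtype.ext ?_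
      right_inv := fun L => Subtype.ext ?_ }
  · intro x hx
    refine ⟨⟨x, h.1 hx⟩, ?_, rfl⟩
    show q ⟨x, h.1 hx⟩ ∈ L.1
    rw [show q ⟨x, h.1 hx⟩ = 1 from (QuotientGroup.eq_one_iff _).mpr hx]
    exact L.1.one_mem
  · show (((L.1.comap q).map H.subtype).comap H.subtype).index = p
    rw [comap_map_eq_self_of_injective H.subtype_injective,
      index_comap_of_surjective _ hq]
    exact L.2
  · show ((((L.1.subgroupOf H).map q)).comap q).map H.subtype = L.1
    obtain ⟨hNL, hLH, -⟩ := mem_hyper.mp L.2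
    rw [comap_map_eq_self (hker L.1 hNL), map_subgroupOf_eq_of_le hLH]
  · show (((L.1.comap q).map H.subtype).comap H.subtype).map q = L.1
    rw [comap_map_eq_self_of_injective H.subtype_injective,
      map_comap_eq_self_of_surjective hq]

/-! ### congruence helpers -/

theorem hyper_modEq_sq {c e : ℕ} (he : 2 ≤ e) (h : (p - 1) * c + 1 = p ^ e) :
    c ≡ 1 + p [MOD p ^ 2] := by
  have h' : (p : ℤ) ^ 2 ∣ ((p : ℤ) - 1) * ((c : ℤ) - (1 + p)) := by
    have : (((p - 1) * c + 1 : ℕ) : ℤ) = ((p ^ e : ℕ) : ℤ) := by rw [h]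
    push_cast [hp.out.one_le] at this
    rw [show ((p : ℤ) - 1) * ((c : ℤ) - (1 + p)) = (p : ℤ) ^ e - (p : ℤ) ^ 2 by linear_combination this]
    exact dvd_sub (pow_dvd_pow _ he) dvd_rfl
  have hcop : IsCoprime ((p : ℤ) ^ 2) ((p : ℤ) - 1) :=
    IsCoprime.pow_left ⟨1, -1, by ring⟩
  exact (Nat.modEq_iff_dvd.mpr (by push_cast; exact dvd_neg.mp (by
    rw [neg_sub]; exact hcop.dvd_of_dvd_mul_left h'))).symm.symm

theorem hyper_cases {H N : Subgroup G} (hH : IsPGroup p H) (h : ElemQuot p H N) (hne : N ≠ H) :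
    (N.relIndex H = p ∧ (hyper p H N).card = 1) ∨
      (N.relIndex H ≠ p ∧ (hyper p H N).card ≡ 1 + p [MOD p ^ 2]) := by
  have hc := card_hyper h
  obtain ⟨e, he⟩ := hH.index (N.subgroupOf H)
  have hd0 : N.relIndex H ≠ 1 := fun h1 => hne (le_antisymm h.1 (relIndex_eq_one.mp h1))
  change N.relIndex H = p ^ e at he
  rw [he] at hc hd0 ⊢
  have he0 : e ≠ 0 := fun h0 => hd0 (by rw [h0, pow_zero])
  rcases Nat.lt_or_ge e 2 with he1 | he2
  · obtain rfl : e = 1 := by omega
    rw [pow_one] at hc ⊢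
    left
    refine ⟨rfl, ?_⟩
    have := hp.out.two_le
    have h' : (p - 1) * (hyper p H N).card = (p - 1) * 1 := by omega
    exact Nat.eq_of_mul_eq_mul_left (by omega) h'
  · refine Or.inr ⟨fun hh => ?_, hyper_modEq_sq he2 hc⟩
    have : p ^ 1 < p ^ e := Nat.pow_lt_pow_right hp.out.one_lt he2
    rw [pow_one] at this
    omega

theorem hyper_modEq_one {H N : Subgroup G} (hH : IsPGroup p H) (h : ElemQuot p H N) (hne : N ≠ H) :
    (hyper p H N).card ≡ 1 [MOD p] := by
  rcases hyper_cases hH h hne with ⟨-, h1⟩ | ⟨-, h1⟩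
  · rw [h1]
  · refine (h1.of_dvd (dvd_pow_self p two_ne_zero)).trans ?_
    show (1 + p) % p = 1 % p
    rw [Nat.add_mod_right]

theorem sum_subs_hyper {M N : Subgroup G} (h : ElemQuot p M N) (k : ℕ) :
    ∑ L ∈ hyper p M N, (subs p L k).card = ∑ K ∈ subs p M k, (hyper p M (N ⊔ K)).card := by
  classical
  have h1 : ∀ L ∈ hyper p M N, subs p L k = (subs p M k).filter (· ≤ L) := by
    intro L hL
    ext K
    simp only [mem_subs, Finset.mem_filter]
    exact ⟨fun hK => ⟨⟨hK.1.trans (mem_hyper.mp hL).2.1, hK.2⟩, hK.1⟩, fun hK => ⟨hK.2, hK.1.2⟩⟩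
  have h2 : ∀ K : Subgroup G, hyper p M (N ⊔ K) = (hyper p M N).filter (K ≤ ·) := by
    intro K
    ext L
    simp only [mem_hyper, Finset.mem_filter, sup_le_iff]
    tauto
  rw [Finset.sum_congr rfl fun L hL => by rw [h1 L hL, Finset.card_filter], Finset.sum_comm]
  exact Finset.sum_congr rfl fun K _ => by rw [h2, Finset.card_filter]

theorem card_le_of_mem_hyper {H N L : Subgroup G} (hL : L ∈ hyper p H N) :
    Nat.card L * p = Nat.card H := by
  obtain ⟨-, hLH, hi⟩ := mem_hyper.mp hL
  rw [← hi, ← Nat.card_congr (subgroupOfEquivOfLe hLH).toEquiv]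
  exact (L.subgroupOf H).card_mul_index

theorem dvd_card_of_le {H : Subgroup G} (hH : IsPGroup p H) {k : ℕ} (hk : p ^ k ≤ Nat.card H) :
    p ^ k ∣ Nat.card H := by
  obtain ⟨m, hm⟩ := IsPGroup.iff_card.mp hH
  rw [hm] at hk ⊢
  exact pow_dvd_pow p ((Nat.pow_le_pow_iff_right hp.out.one_lt).mp hk)

/-- subgroups generating `M` over `N` are divisible by `p` in number -/
theorem card_gen_modEq_zero {M N : Subgroup G} (hM : IsPGroup p M) (h : ElemQuot p M N)
    (hne : N ≠ M) {k : ℕ} (hk : p ^ (k + 1) ≤ Nat.card M) :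
    open Classical in ((subs p M k).filter fun K => N ⊔ K = M).card ≡ 0 [MOD p] := by
  classical
  have hsum := sum_subs_hyper h k
  have hn := card_subs_modEq_one (k := k) (dvd_card_of_le hM ((Nat.pow_le_pow_right hp.out.pos (by omega)).trans hk))
  rw [← ZMod.natCast_eq_natCast_iff] at hn ⊢
  have hL : ∀ L ∈ hyper p M N, ((subs p L k).card : ZMod p) = 1 := by
    intro L hL
    have hc := card_le_of_mem_hyper hL
    have hle : p ^ k ≤ Nat.card L := by
      rw [pow_succ, ← hc] at hk
      exact Nat.le_of_mul_le_mul_right hk hp.out.pos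
    have := card_subs_modEq_one (dvd_card_of_le (hM.to_le (mem_hyper.mp hL).2.1) hle)
    rw [← ZMod.natCast_eq_natCast_iff] at this
    simpa using this
  have hK : ∀ K ∈ subs p M k,
      ((hyper p M (N ⊔ K)).card : ZMod p) = if N ⊔ K = M then 0 else 1 := by
    intro K hK
    split
    · rename_i heq
      rw [show hyper p M (N ⊔ K) = ∅ from ?_]
      · simp
      refine Finset.eq_empty_of_forall_notMem fun L hL => ?_
      obtain ⟨h1, h2, h3⟩ := mem_hyper.mp hL
      rw [heq] at h1
      rw [le_antisymm h2 h1, relIndex_self] at h3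
      exact hp.out.one_lt.ne h3
    · rename_i hne'
      have := hyper_modEq_one hM (h.mono le_sup_left (sup_le h.1 (mem_subs.mp hK).1)).2 hne'
      rw [← ZMod.natCast_eq_natCast_iff] at this
      simpa using this
  have hh := hyper_modEq_one hM h hne
  rw [← ZMod.natCast_eq_natCast_iff] at hh
  have e := congrArg (Nat.cast : ℕ → ZMod p) hsum
  rw [Nat.cast_sum, Nat.cast_sum, Finset.sum_congr rfl hL, Finset.sum_congr rfl hK,
    Finset.sum_const, nsmul_one, hh, Finset.sum_ite, Finset.sum_const_zero, zero_add,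
    Finset.sum_const, nsmul_one] at e
  have hsplit := Finset.card_filter_add_card_filter_not (s := subs p M k) (fun K => N ⊔ K = M)
  have e2 := congrArg (Nat.cast : ℕ → ZMod p) hsplit
  rw [Nat.cast_add, ← e, hn] at e2
  simpa using e2

/-- Hall's enumeration, one step modulo `p ^ 2` -/
theorem sum_hyper_modEq {H F : Subgroup G} (hH : IsPGroup p H) (h : ElemQuot p H F)
    (hgen : ∀ K ≤ H, F ⊔ K = H → K = H) (hne : F.relIndex H ≠ p) (hF : F ≠ H) {k : ℕ}
    (hk : p ^ (k + 2) ≤ Nat.card H) :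
    ∑ M ∈ hyper p H F, (subs p M k).card ≡ (subs p H k).card + p [MOD p ^ 2] := by
  classical
  rw [sum_subs_hyper h k]
  set T := (subs p H k).filter fun K => (F ⊔ K).relIndex H = p with hT
  set R := (subs p H k).filter fun K => ¬ (F ⊔ K).relIndex H = p with hR
  have hproper : ∀ K ∈ subs p H k, F ⊔ K ≠ H := by
    intro K hK heq
    have := hgen K (mem_subs.mp hK).1 heq
    subst this
    rw [(mem_subs.mp hK).2] at hk
    have := (Nat.pow_le_pow_iff_right hp.out.one_lt).mp hk
    omega
  have hc : ∀ K ∈ subs p H k, ElemQuot p H (F ⊔ K) := fun K hK =>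
    (h.mono le_sup_left (sup_le h.1 (mem_subs.mp hK).1)).2
  have hT1 : ∀ K ∈ T, ((hyper p H (F ⊔ K)).card : ZMod (p ^ 2)) = 1 := by
    intro K hK
    obtain ⟨hK, hi⟩ := Finset.mem_filter.mp hK
    rcases hyper_cases hH (hc K hK) (hproper K hK) with ⟨-, h1⟩ | ⟨h1, -⟩
    · rw [h1, Nat.cast_one]
    · exact absurd hi h1
  have hR1 : ∀ K ∈ R, ((hyper p H (F ⊔ K)).card : ZMod (p ^ 2)) = 1 + p := by
    intro K hK
    obtain ⟨hK, hi⟩ := Finset.mem_filter.mp hK
    rcases hyper_cases hH (hc K hK) (hproper K hK) with ⟨h1, -⟩ | ⟨-, h1⟩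
    · exact absurd h1 hi
    · rw [← ZMod.natCast_eq_natCast_iff] at h1
      simpa using h1
  -- `T` has cardinality divisible by `p`
  have hTdvd : p ∣ T.card := by
    have hmaps : ∀ K ∈ T, F ⊔ K ∈ hyper p H F := fun K hK => by
      obtain ⟨hK, hi⟩ := Finset.mem_filter.mp hK
      exact mem_hyper.mpr ⟨le_sup_left, sup_le h.1 (mem_subs.mp hK).1, hi⟩
    rw [Finset.card_eq_sum_card_fiberwise hmaps]
    refine Finset.dvd_sum fun M hM => ?_
    obtain ⟨hFM, hMH, hMi⟩ := mem_hyper.mp hM
    have hfib : T.filter (fun K => F ⊔ K = M) = (subs p M k).filter fun K => F ⊔ K = M := by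
      ext K
      simp only [hT, Finset.mem_filter, mem_subs]
      constructor
      · rintro ⟨⟨⟨-, hKc⟩, -⟩, hKM⟩
        exact ⟨⟨hKM ▸ le_sup_right, hKc⟩, hKM⟩
      · rintro ⟨⟨hKM, hKc⟩, hKeq⟩
        exact ⟨⟨⟨hKM.trans hMH, hKc⟩, hKeq ▸ hMi⟩, hKeq⟩
    rw [hfib]
    have hMc := card_le_of_mem_hyper hM
    refine Nat.modEq_zero_iff_dvd.mp
      (card_gen_modEq_zero (hH.to_le hMH) (h.mono hFM hMH).1 (fun e => hne (e ▸ hMi)) ?_)
    rw [show k + 2 = (k + 1) + 1 by rfl, pow_succ, ← hMc] at hk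
    exact Nat.le_of_mul_le_mul_right hk hp.out.pos
  have hn := card_subs_modEq_one (k := k) (dvd_card_of_le hH ((Nat.pow_le_pow_right hp.out.pos (by omega)).trans hk))
  have hsplit := Finset.card_filter_add_card_filter_not (s := subs p H k)
    (fun K => (F ⊔ K).relIndex H = p)
  rw [← hT, ← hR] at hsplit
  rw [← ZMod.natCast_eq_natCast_iff, Nat.cast_add, Nat.cast_sum,
    ← Finset.sum_filter_add_sum_filter_not (subs p H k) (fun K => (F ⊔ K).relIndex H = p),
    ← hT, ← hR, Finset.sum_congr rfl hT1, Finset.sum_congr rfl hR1, Finset.sum_const,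
    Finset.sum_const, ← hsplit, Nat.cast_add, nsmul_one, nsmul_eq_mul, mul_add, mul_one, add_assoc]
  congr 1
  congr 1
  have hRp : R.card ≡ 1 [MOD p] := by
    have : T.card + R.card ≡ 0 + 1 [MOD p] := by rw [zero_add, hsplit]; exact hn
    exact Nat.ModEq.add_left_cancel (Nat.modEq_zero_iff_dvd.mpr hTdvd) this
  have h2 := hRp.mul_right' p
  rw [one_mul, ← pow_two, ← ZMod.natCast_eq_natCast_iff, Nat.cast_mul] at h2
  exact h2

end Cfsg.Agent.Lib.CountModSq
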