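import Mathlib
import Cfsg.Agent.Lib.CountModSq

/-! Hall: subgroups of order `p ^ a` in a group versus in a Sylow subgroup, modulo `p ^ 2`. -/

set_option autoImplicit false

namespace Cfsg.Agent.Lib.CountModSq

open Subgroup Finset
open scoped Pointwise

variable {G : Type*} [Group G] [Finite G] {p : ℕ} [hp : Fact p.Prime]

/-- conjugation action on subgroups -/
noncomputable local instance conjSubgroupAction : MulAction G (Subgroup G) :=
  MulAction.compHom _ (MulAut.conj (G := G))

omit [Finite G] hp in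
theorem mem_conj_smul {g x : G} {K : Subgroup G} : x ∈ g • K ↔ g⁻¹ * x * g ∈ K := by
  change x ∈ MulAut.conj g • K ↔ _
  rw [Subgroup.mem_pointwise_smul_iff_inv_smul_mem]
  simp [MulAut.smul_def]

omit [Finite G] hp in
theorem conj_smul_eq_self_iff {g : G} {K : Subgroup G} :
    g • K = K ↔ g ∈ Subgroup.normalizer (K : Set G) := by
  rw [Subgroup.mem_normalizer_iff]
  constructor
  · intro h x
    conv_rhs => rw [← h, mem_conj_smul]
    rw [show g⁻¹ * (g * x * g⁻¹) * g = x by group]
  · intro h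
    ext x
    rw [mem_conj_smul, h]
    rw [show g * (g⁻¹ * x * g) * g⁻¹ = x by group]

omit hp in
theorem card_conj_smul (g : G) (K : Subgroup G) : Nat.card ↥(g • K : Subgroup G) = Nat.card K :=
  Nat.card_congr (Subgroup.equivSMul (MulAut.conj g) K).toEquiv.symm

omit [Finite G] hp in
theorem dvd_sum_orbits {A Y : Type*} [Group A] [Finite A] [MulAction A Y] (n : ℕ) (f : Y → ℕ)
    (hf : ∀ (a : A) (y : Y), f (a • y) = f y) (s : Finset Y)
    (hs : ∀ (a : A), ∀ y ∈ s, a • y ∈ s)
    (hd : ∀ y ∈ s, n ∣ Nat.card (MulAction.orbit A y) * f y) : n ∣ ∑ y ∈ s, f y := by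
  classical
  induction s using Finset.strongInduction with
  | _ s ih =>
  rcases s.eq_empty_or_nonempty with rfl | ⟨y, hy⟩
  · simp
  set o := s.filter (· ∈ MulAction.orbit A y) with ho
  have hmem : ∀ z, z ∈ o ↔ z ∈ MulAction.orbit A y := fun z => by
    rw [ho, Finset.mem_filter]
    refine ⟨And.right, fun hz => ⟨?_, hz⟩⟩
    obtain ⟨a, rfl⟩ := hz
    exact hs a y hy
  have hoc : o.card = Nat.card (MulAction.orbit A y) := by
    rw [← Nat.card_eq_finsetCard]
    exact Nat.card_congr (Equiv.subtypeEquivRight hmem)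
  rw [← Finset.sum_filter_add_sum_filter_not s (· ∈ MulAction.orbit A y), ← ho]
  refine Nat.dvd_add ?_ (ih _ ?_ ?_ fun z hz => hd z (Finset.mem_filter.mp hz).1)
  · rw [Finset.sum_congr rfl (g := fun _ => f y) fun z hz => by
      obtain ⟨a, rfl⟩ := (hmem z).mp hz
      exact hf a y, Finset.sum_const, smul_eq_mul, hoc]
    exact hd y hy
  · exact Finset.filter_ssubset.mpr ⟨y, hy, not_not.mpr (MulAction.mem_orbit_self y)⟩
  · intro a z hz
    obtain ⟨hz, hzo⟩ := Finset.mem_filter.mp hz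
    refine Finset.mem_filter.mpr ⟨hs a z hz, fun hh => hzo ?_⟩
    obtain ⟨b, hb⟩ := hh
    refine ⟨a⁻¹ * b, ?_⟩
    simp only at hb ⊢
    rw [mul_smul, hb, inv_smul_smul]

omit hp in
theorem orbit_mul_normalizer (P K : Subgroup G) :
    Nat.card (MulAction.orbit ↥P K) *
      Nat.card ↥(P ⊓ Subgroup.normalizer (K : Set G)) = Nat.card P := by
  have h : MulAction.stabilizer ↥P K = (Subgroup.normalizer (K : Set G)).subgroupOf P := by
    ext x
    rw [MulAction.mem_stabilizer_iff, mem_subgroupOf]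
    exact conj_smul_eq_self_iff
  have e : Nat.card ↥(MulAction.stabilizer ↥P K) =
      Nat.card ↥(P ⊓ Subgroup.normalizer (K : Set G)) := by
    rw [h, ← inf_subgroupOf_left]
    exact Nat.card_congr (subgroupOfEquivOfLe inf_le_left).toEquiv
  rw [Nat.card_congr (MulAction.orbitEquivQuotientStabilizer ↥P K), ← Subgroup.index_eq_card, ← e,
    mul_comm]
  exact Subgroup.card_mul_index _

omit [Finite G] hp in
theorem smul_sup_conj (g : G) (A B : Subgroup G) :
    (g • (A ⊔ B) : Subgroup G) = g • A ⊔ g • B :=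
  Subgroup.smul_sup (MulAut.conj g) A B

omit [Finite G] hp in
theorem sup_inf_normalizer_smul (P : Subgroup G) {g : G} (hg : g ∈ P) (K : Subgroup G) :
    (g • K : Subgroup G) ⊔ (P ⊓ Subgroup.normalizer ((g • K : Subgroup G) : Set G)) =
      g • (K ⊔ (P ⊓ Subgroup.normalizer (K : Set G))) := by
  rw [smul_sup_conj]
  congr 1
  ext x
  rw [mem_conj_smul, Subgroup.mem_inf, Subgroup.mem_inf, ← conj_smul_eq_self_iff,
    ← conj_smul_eq_self_iff]
  refine and_congr ⟨fun h => P.mul_mem (P.mul_mem (P.inv_mem hg) h) hg, fun h => ?_⟩ ?_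
  · have := P.mul_mem (P.mul_mem hg h) (P.inv_mem hg)
    simpa [mul_assoc] using this
  · rw [mul_smul, mul_smul, inv_smul_eq_iff]

theorem exists_pow_card {P : Subgroup G} (hP : IsPGroup p P) (H : Subgroup G) (h : H ≤ P) :
    ∃ j, Nat.card H = p ^ j :=
  IsPGroup.iff_card.mp (hP.to_le h)

/-- the fixed points count: subgroups normalized by `Q` outside `D`, modulo `p` -/
theorem card_normal_outside {Q D : Subgroup G} (hQ : IsPGroup p Q) (hDQ : D ≤ Q)
    (hnorm : Q ≤ Subgroup.normalizer (D : Set G)) {k : ℕ} (hk : p ^ k ≤ Nat.card D) :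
    open Classical in
    p ∣ ((subs p Q k).filter fun K => ¬ K ≤ D ∧ Q ≤ Subgroup.normalizer (K : Set G)).card := by
  classical
  set s := (subs p Q k).filter fun K => ¬ K ≤ D with hs
  have hsD : (subs p Q k).filter (fun K => K ≤ D) = subs p D k := by
    ext K
    simp only [Finset.mem_filter, mem_subs]
    exact ⟨fun h => ⟨h.2, h.1.2⟩, fun h => ⟨⟨h.1.trans hDQ, h.2⟩, h.1⟩⟩
  have hp1 : p ∣ s.card := by
    have h1 := card_subs_modEq_one (dvd_card_of_le hQ (hk.trans (Subgroup.card_le_of_le hDQ)))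
    have h2 := card_subs_modEq_one (dvd_card_of_le (hQ.to_le hDQ) hk)
    have h3 := Finset.card_filter_add_card_filter_not (s := subs p Q k) (fun K => K ≤ D)
    rw [hsD, ← hs] at h3
    have : (subs p D k).card + s.card ≡ (subs p D k).card + 0 [MOD p] := by
      rw [h3, add_zero]; exact h1.trans h2.symm
    exact Nat.modEq_zero_iff_dvd.mp (Nat.ModEq.add_left_cancel' _ this)
  have hfix : p ∣ ∑ K ∈ s, (if Q ≤ Subgroup.normalizer (K : Set G) then 0 else 1) := by
    refine dvd_sum_orbits (A := ↥Q) p _ (fun a K => ?_) s (fun a K hK => ?_) fun K hK => ?_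
    · refine if_congr ?_ rfl rfl
      have key : ∀ (a : ↥Q) (K : Subgroup G), Q ≤ Subgroup.normalizer (K : Set G) →
          Q ≤ Subgroup.normalizer ((a • K : Subgroup G) : Set G) := fun a K h => by
        rw [show (a • K : Subgroup G) = K from conj_smul_eq_self_iff.mpr (h a.2)]
        exact h
      exact ⟨fun h => by simpa using key a⁻¹ _ h, key a K⟩
    · obtain ⟨hK, hKD⟩ := Finset.mem_filter.mp hK
      obtain ⟨hKQ, hKc⟩ := mem_subs.mp hK
      refine Finset.mem_filter.mpr ⟨mem_subs.mpr ⟨fun x hx => ?_, ?_⟩, fun h => hKD fun x hx => ?_⟩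
      · have := Q.mul_mem (Q.mul_mem a.2 (hKQ (mem_conj_smul.mp hx))) (Q.inv_mem a.2)
        simpa [mul_assoc] using this
      · exact (card_conj_smul (a : G) K).trans hKc
      · have hm : (a : G) * x * (a : G)⁻¹ ∈ D := h (mem_conj_smul.mpr (by simpa [mul_assoc] using hx))
        exact (Subgroup.mem_normalizer_iff.mp (hnorm a.2) x).mpr hm
    · split
      · simp
      · rename_i hn
        rw [mul_one]
        have h := orbit_mul_normalizer Q K
        obtain ⟨j, hj⟩ := exists_pow_card hQ _ (inf_le_left : Q ⊓ Subgroup.normalizer (K : Set G) ≤ Q)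
        obtain ⟨n, hn'⟩ := IsPGroup.iff_card.mp hQ
        rw [hj, hn'] at h
        obtain ⟨i, -, hi⟩ := (Nat.dvd_prime_pow hp.out).mp (Dvd.intro _ h)
        rcases Nat.eq_zero_or_pos i with rfl | hi0
        · exfalso
          rw [hi, pow_zero, one_mul] at h
          exact hn (le_of_eq_of_le (Subgroup.eq_of_le_of_card_ge inf_le_left (by rw [hn', hj, h])).symm inf_le_right)
        · rw [hi]; exact dvd_pow_self p hi0.ne'
  rw [Finset.sum_ite, Finset.sum_const_zero, zero_add, Finset.sum_const, smul_eq_mul, mul_one] at hfix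
  have h4 := Finset.card_filter_add_card_filter_not (s := s) (fun K => Q ≤ Subgroup.normalizer (K : Set G))
  rw [hs, Finset.filter_filter] at h4
  rw [← h4] at hp1
  exact (Nat.dvd_add_left hfix).mp hp1

set_option maxHeartbeats 1000000 in
/-- Hall: modulo `p ^ 2` only the subgroups of a Sylow subgroup count. -/
theorem card_subs_top_modEq (P : Sylow p G) {k : ℕ} (hk : p ^ (k + 1) ≤ Nat.card (P : Subgroup G)) :
    (subs p (⊤ : Subgroup G) k).card ≡ (subs p (P : Subgroup G) k).card [MOD p ^ 2] := by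
  classical
  set P₀ := (P : Subgroup G) with hP₀
  have hPp : IsPGroup p P₀ := P.2
  obtain ⟨m, hm⟩ := IsPGroup.iff_card.mp hPp
  have hm0 : m ≠ 0 := by
    rintro rfl
    rw [hm, pow_zero] at hk
    have : p ^ 1 ≤ p ^ (k + 1) := Nat.pow_le_pow_right hp.out.pos (by omega)
    rw [pow_one] at this
    have := hp.out.two_le
    omega
  set out := (subs p (⊤ : Subgroup G) k).filter fun K => ¬ K ≤ P₀ with hout
  have hin : (subs p (⊤ : Subgroup G) k).filter (fun K => K ≤ P₀) = subs p P₀ k := by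
    ext K
    simp only [Finset.mem_filter, mem_subs, le_top, true_and]
    tauto
  have hsplit := Finset.card_filter_add_card_filter_not (s := subs p (⊤ : Subgroup G) k) (fun K => K ≤ P₀)
  rw [hin, ← hout] at hsplit
  suffices h : p ^ 2 ∣ out.card by
    rw [← hsplit]
    exact (Nat.ModEq.add_left _ (Nat.modEq_zero_iff_dvd.mpr h)).trans (by rw [add_zero])
  have hPinv : ∀ (g : ↥P₀) (K : Subgroup G), K ∈ out → g • K ∈ out := by
    intro g K hK
    obtain ⟨hK, hKP⟩ := Finset.mem_filter.mp hK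
    refine Finset.mem_filter.mpr ⟨mem_subs.mpr ⟨le_top, (card_conj_smul (g : G) K).trans (mem_subs.mp hK).2⟩,
      fun h => hKP fun x hx => ?_⟩
    have hm : (g : G) * x * (g : G)⁻¹ ∈ P₀ := h (mem_conj_smul.mpr (by simpa [mul_assoc] using hx))
    have := P₀.mul_mem (P₀.mul_mem (P₀.inv_mem g.2) hm) g.2
    simpa [mul_assoc] using this
  let N : Subgroup G → ℕ := fun K => Nat.card ↥(P₀ ⊓ Subgroup.normalizer (K : Set G))
  have hN : ∀ (g : ↥P₀) (K : Subgroup G), N (g • K) = N K := by
    intro g K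
    have h1 := orbit_mul_normalizer P₀ K
    have h2 := orbit_mul_normalizer P₀ (g • K : Subgroup G)
    rw [MulAction.orbit_eq_iff.mpr (MulAction.mem_orbit K g), ← h1] at h2
    exact Nat.eq_of_mul_eq_mul_left
      (by have := (MulAction.nonempty_orbit (M := ↥P₀) K).to_subtype; exact Nat.card_pos) h2
  have hnn : ∀ K ∈ out, N K < p ^ m := by
    intro K hK
    obtain ⟨hK, hKP⟩ := Finset.mem_filter.mp hK
    refine lt_of_le_of_ne (hm ▸ Subgroup.card_le_of_le inf_le_left) fun h => hKP ?_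
    have hle : P₀ ≤ Subgroup.normalizer (K : Set G) :=
      le_of_eq_of_le (Subgroup.eq_of_le_of_card_ge inf_le_left (h.trans hm.symm).ge).symm inf_le_right
    have hKp : IsPGroup p K := IsPGroup.of_card (mem_subs.mp hK).2
    have hsup : IsPGroup p ↥(K ⊔ P₀) := hKp.to_sup_of_normal_left' hPp hle
    have := P.3 hsup le_sup_right
    exact le_sup_left.trans this.le
  have hpow : ∀ K ∈ out, ∃ j, N K = p ^ j ∧ j < m ∧ Nat.card (MulAction.orbit ↥P₀ K) = p ^ (m - j) := by
    intro K hK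
    obtain ⟨j, hj⟩ := exists_pow_card hPp _ (inf_le_left : P₀ ⊓ Subgroup.normalizer (K : Set G) ≤ P₀)
    have hlt := hnn K hK
    simp only [N] at hlt ⊢
    rw [hj] at hlt
    have hjm := (Nat.pow_lt_pow_iff_right hp.out.one_lt).mp hlt
    refine ⟨j, hj, hjm, ?_⟩
    have h := orbit_mul_normalizer P₀ K
    rw [hj, hm, show p ^ m = p ^ (m - j) * p ^ j by rw [← pow_add, Nat.sub_add_cancel hjm.le]] at h
    exact Nat.eq_of_mul_eq_mul_right (pow_pos hp.out.pos j) h
  rw [← Finset.card_filter_add_card_filter_not (s := out) (fun K => N K = p ^ (m - 1))]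
  refine Nat.dvd_add ?_ ?_
  swap
  · rw [Finset.card_eq_sum_ones]
    refine dvd_sum_orbits (A := ↥P₀) _ (fun _ => 1) (fun _ _ => rfl) _ (fun g K hK => ?_) fun K hK => ?_
    · obtain ⟨hK, hne⟩ := Finset.mem_filter.mp hK
      exact Finset.mem_filter.mpr ⟨hPinv g K hK, by rwa [hN]⟩
    · obtain ⟨hK, hne⟩ := Finset.mem_filter.mp hK
      obtain ⟨j, hj, hjm, ho⟩ := hpow K hK
      rw [mul_one, ho]
      refine pow_dvd_pow p ?_
      by_contra hc
      exact hne (by rw [hj, show j = m - 1 by omega])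
  set X := out.filter fun K => N K = p ^ (m - 1) with hX
  let q : Subgroup G → Subgroup G := fun K => K ⊔ (P₀ ⊓ Subgroup.normalizer (K : Set G))
  have hindex : ∀ D : Subgroup G, D ≤ P₀ → Nat.card D = p ^ (m - 1) → ∀ R : Subgroup G, D ≤ R →
      Nat.card R = p ^ m → R ≤ Subgroup.normalizer (D : Set G) := by
    intro D hD hDc R hDR hR
    refine (Subgroup.normal_subgroupOf_iff_le_normalizer hDR).mp ?_
    refine Subgroup.normal_of_index_eq_minFac_card ?_
    have hc := (D.subgroupOf R).card_mul_index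
    rw [Nat.card_congr (subgroupOfEquivOfLe hDR).toEquiv, hDc, hR] at hc
    rw [hR, Nat.pow_minFac hm0, hp.out.minFac_eq]
    nth_rw 2 [show m = (m - 1) + 1 by omega] at hc
    rw [pow_succ] at hc
    exact Nat.eq_of_mul_eq_mul_left (pow_pos hp.out.pos _) hc
  have hq : ∀ K ∈ X, Nat.card ↥(q K) = p ^ m ∧
      P₀ ⊓ q K = P₀ ⊓ Subgroup.normalizer (K : Set G) := by
    intro K hK
    obtain ⟨hKo, hNK⟩ := Finset.mem_filter.mp hK
    obtain ⟨hKs, hKP⟩ := Finset.mem_filter.mp hKo
    set D := P₀ ⊓ Subgroup.normalizer (K : Set G) with hD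
    have hKp : IsPGroup p K := IsPGroup.of_card (mem_subs.mp hKs).2
    have hqp : IsPGroup p ↥(K ⊔ D) :=
      hKp.to_sup_of_normal_left' (hPp.to_le inf_le_left) inf_le_right
    obtain ⟨j, hj⟩ := IsPGroup.iff_card.mp hqp
    have hDc : Nat.card D = p ^ (m - 1) := hNK
    have h1 : p ^ (m - 1) < p ^ j := by
      rw [← hDc, ← hj]
      refine lt_of_le_of_ne (Subgroup.card_le_of_le le_sup_right) fun h => hKP ?_
      have := Subgroup.eq_of_le_of_card_ge (le_sup_right : D ≤ K ⊔ D) h.ge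
      exact (le_sup_left.trans this.ge).trans inf_le_left
    have hjm : m - 1 < j := (Nat.pow_lt_pow_iff_right hp.out.one_lt).mp h1
    have h2 : p ^ j ≤ p ^ m := by
      obtain ⟨R, hR⟩ := hqp.exists_le_sylow
      rw [← hj, ← hm, hP₀, P.card_eq_multiplicity, ← R.card_eq_multiplicity]
      exact Subgroup.card_le_of_le hR
    have hjm' := (Nat.pow_le_pow_iff_right hp.out.one_lt).mp h2
    have hqc : Nat.card ↥(K ⊔ D) = p ^ m := by rw [hj]; congr 1; omega
    refine ⟨hqc, (Subgroup.eq_of_le_of_card_ge (le_inf inf_le_left le_sup_right) ?_).symm⟩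
    obtain ⟨i, hi⟩ := exists_pow_card hPp _ (inf_le_left : P₀ ⊓ q K ≤ P₀)
    rw [hi, hDc]
    refine Nat.pow_le_pow_right hp.out.pos ?_
    by_contra hc
    refine hKP ?_
    have h3 : p ^ i ≤ p ^ m := by rw [← hi, ← hm]; exact Subgroup.card_le_of_le inf_le_left
    have him := (Nat.pow_le_pow_iff_right hp.out.one_lt).mp h3
    have h4 : P₀ ⊓ q K = q K := Subgroup.eq_of_le_of_card_ge inf_le_right (by
      rw [hi, show i = m by omega]; exact hqc.le)
    exact le_sup_left.trans (le_of_eq_of_le h4.symm inf_le_left)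
  have hfib : ∀ K₀ ∈ X, p ∣ (X.filter fun K => q K = q K₀).card := by
    intro K₀ hK₀
    obtain ⟨hQc, hPQ⟩ := hq K₀ hK₀
    have hNK := (Finset.mem_filter.mp hK₀).2
    set D := P₀ ⊓ Subgroup.normalizer (K₀ : Set G) with hD
    have hDc : Nat.card D = p ^ (m - 1) := hNK
    have hQn : q K₀ ≤ Subgroup.normalizer (D : Set G) :=
      hindex D inf_le_left hDc _ le_sup_right hQc
    have hkD : p ^ k ≤ Nat.card D := by
      rw [hm] at hk
      rw [hDc]
      refine Nat.pow_le_pow_right hp.out.pos ?_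
      have := (Nat.pow_le_pow_iff_right hp.out.one_lt).mp hk
      omega
    suffices h : X.filter (fun K => q K = q K₀) = (subs p (q K₀) k).filter
        fun K => ¬ K ≤ D ∧ q K₀ ≤ Subgroup.normalizer (K : Set G) by
      rw [h]
      exact card_normal_outside (IsPGroup.of_card hQc) le_sup_right hQn hkD
    ext K
    simp only [Finset.mem_filter, mem_subs]
    constructor
    · rintro ⟨hK, hKq⟩
      obtain ⟨hKo, hKN⟩ := Finset.mem_filter.mp hK
      obtain ⟨hKs, hKP⟩ := Finset.mem_filter.mp hKo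
      refine ⟨⟨hKq ▸ le_sup_left, (mem_subs.mp hKs).2⟩, fun h => hKP (h.trans inf_le_left), ?_⟩
      rw [← hKq]
      exact sup_le Subgroup.le_normalizer inf_le_right
    · rintro ⟨⟨hKQ, hKc⟩, hKD, hKn⟩
      have hKP : ¬ K ≤ P₀ := fun h => hKD (by rw [← hPQ]; exact le_inf h hKQ)
      have hKo : K ∈ out := Finset.mem_filter.mpr ⟨mem_subs.mpr ⟨le_top, hKc⟩, hKP⟩
      have hDK : D ≤ P₀ ⊓ Subgroup.normalizer (K : Set G) :=
        le_inf inf_le_left (le_sup_right.trans hKn)
      obtain ⟨j, hj, hjm, -⟩ := hpow K hKo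
      have hDeq : D = P₀ ⊓ Subgroup.normalizer (K : Set G) :=
        Subgroup.eq_of_le_of_card_ge hDK (by
          rw [hDc]; show N K ≤ _
          rw [hj]; exact Nat.pow_le_pow_right hp.out.pos (by omega))
      have hKX : K ∈ X := Finset.mem_filter.mpr ⟨hKo, by
        show Nat.card ↥(P₀ ⊓ Subgroup.normalizer (K : Set G)) = _
        rw [← hDeq]; exact hDc⟩
      refine ⟨hKX, Subgroup.eq_of_le_of_card_ge (sup_le hKQ ?_) (le_of_eq ?_)⟩
      · rw [← hDeq]; exact le_sup_right
      · rw [(hq K hKX).1, hQc]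
  have hconjX : ∀ (g : ↥P₀), ∀ K ∈ X, g • K ∈ X := fun g K hK => by
    obtain ⟨hKo, hNK⟩ := Finset.mem_filter.mp hK
    exact Finset.mem_filter.mpr ⟨hPinv g K hKo, by rw [hN]; exact hNK⟩
  have hqconj : ∀ (g : ↥P₀) (K : Subgroup G), q (g • K) = g • q K := by
    intro g K
    exact sup_inf_normalizer_smul P₀ g.2 K
  rw [Finset.card_eq_sum_card_image q]
  refine dvd_sum_orbits (A := ↥P₀) _ _ (fun g R => ?_) _ (fun g R hR => ?_) fun R hR => ?_
  · refine Finset.card_bij' (fun K _ => g⁻¹ • K) (fun K _ => g • K) ?_ ?_ ?_ ?_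
    · intro K hK
      obtain ⟨hK, hKR⟩ := Finset.mem_filter.mp hK
      exact Finset.mem_filter.mpr ⟨hconjX g⁻¹ K hK, by rw [hqconj, hKR, inv_smul_smul]⟩
    · intro K hK
      obtain ⟨hK, hKR⟩ := Finset.mem_filter.mp hK
      exact Finset.mem_filter.mpr ⟨hconjX g K hK, by rw [hqconj, hKR]⟩
    · intro K _; exact smul_inv_smul g K
    · intro K _; exact inv_smul_smul g K
  · obtain ⟨K, hK, rfl⟩ := Finset.mem_image.mp hR
    exact Finset.mem_image.mpr ⟨g • K, hconjX g K hK, hqconj g K⟩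
  · obtain ⟨K, hK, rfl⟩ := Finset.mem_image.mp hR
    rw [pow_two]
    refine Nat.mul_dvd_mul ?_ (hfib K hK)
    obtain ⟨hRc, hPR⟩ := hq K hK
    have h := orbit_mul_normalizer P₀ (q K)
    obtain ⟨j, hj⟩ := exists_pow_card hPp _ (inf_le_left : P₀ ⊓ Subgroup.normalizer ((q K : Subgroup G) : Set G) ≤ P₀)
    rw [hj, hm] at h
    obtain ⟨i, -, hi⟩ := (Nat.dvd_prime_pow hp.out).mp (Dvd.intro _ h)
    rcases Nat.eq_zero_or_pos i with rfl | hi0
    · exfalso
      rw [hi, pow_zero, one_mul] at h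
      have hle : P₀ ≤ Subgroup.normalizer ((q K : Subgroup G) : Set G) :=
        le_of_eq_of_le (Subgroup.eq_of_le_of_card_ge inf_le_left (by rw [hm, hj, h])).symm inf_le_right
      have := P.3 ((IsPGroup.of_card hRc).to_sup_of_normal_left' hPp hle) le_sup_right
      exact (Finset.mem_filter.mp (Finset.mem_filter.mp hK).1).2
        ((le_sup_left : K ≤ q K).trans (le_sup_left.trans this.le))
    · rw [hi]; exact dvd_pow_self p hi0.ne'

end Cfsg.Agent.Lib.CountModSq
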