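import Mathlib
import Cfsg.Agent.S0111
import Cfsg.Agent.Lib.Transfer.Basic
import Cfsg.Agent.Lib.Uniq.PGroup

/-!
A four-group `U` acting on a normal subgroup `A` without index-two subgroups, such that no
nontrivial element of `U` centralises two commuting involutions of `A`: then `A` has no two
commuting involutions.
-/

set_option autoImplicit false

namespace Cfsg.Agent.Lib.FourFixRankOne

open Subgroup

variable {G : Type*} [Group G]

/-- An element moved to at most one other point by a four-group is fixed by one of its involutions. -/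
theorem exists_fix_of_pair {U : Subgroup G} {u₁ u₂ : G} (h₁ : u₁ ∈ U) (h₂ : u₂ ∈ U)
    (h1 : u₁ ≠ 1) (h2 : u₂ ≠ 1) (h12 : u₁ ≠ u₂) {e e' : G}
    (hr : ∀ u ∈ U, u * e * u⁻¹ = e ∨ u * e * u⁻¹ = e') :
    ∃ u ∈ U, u ≠ 1 ∧ u * e * u⁻¹ = e := by
  rcases hr u₁ h₁ with h | h
  · exact ⟨u₁, h₁, h1, h⟩
  rcases hr u₂ h₂ with h' | h'
  · exact ⟨u₂, h₂, h2, h'⟩
  refine ⟨u₁⁻¹ * u₂, U.mul_mem (U.inv_mem h₁) h₂, fun h0 => h12 (inv_mul_eq_one.1 h0), ?_⟩
  calc u₁⁻¹ * u₂ * e * (u₁⁻¹ * u₂)⁻¹ = u₁⁻¹ * (u₂ * e * u₂⁻¹) * u₁ := by group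
    _ = u₁⁻¹ * (u₁ * e * u₁⁻¹) * u₁ := by rw [h, h']
    _ = e := by group

/-- A central element of the quotient: in a finite 2-group `T`, between normal subgroups `B < M`. -/
theorem exists_central_mod [Finite G] {T B M : Subgroup G} (hT : IsPGroup 2 ↥T) (hMT : M ≤ T)
    (hBM : B < M) (hBn : T ≤ normalizer (B : Set G)) (hMn : T ≤ normalizer (M : Set G)) :
    ∃ m ∈ M, m ∉ B ∧ m * m ∈ B ∧ ∀ t ∈ T, m⁻¹ * (t * m * t⁻¹) ∈ B := by
  have : Fact (Nat.Prime 2) := ⟨Nat.prime_two⟩
  haveI : (B.subgroupOf T).Normal := normal_subgroupOf_iff_le_normalizer (hBM.le.trans hMT) |>.2 hBn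
  haveI : (M.subgroupOf T).Normal := normal_subgroupOf_iff_le_normalizer hMT |>.2 hMn
  let π := QuotientGroup.mk' (B.subgroupOf T)
  haveI : ((M.subgroupOf T).map π).Normal :=
    Subgroup.Normal.map inferInstance π (QuotientGroup.mk'_surjective _)
  have hne : (M.subgroupOf T).map π ≠ ⊥ := by
    intro h
    obtain ⟨m, hm, hmB⟩ := SetLike.exists_of_lt hBM
    have h' : π ⟨m, hMT hm⟩ ∈ (M.subgroupOf T).map π :=
      mem_map_of_mem π (by exact mem_subgroupOf.2 hm)
    rw [h, mem_bot] at h'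
    exact hmB (mem_subgroupOf.1 ((QuotientGroup.eq_one_iff _).1 h'))
  obtain ⟨c, hc, hc1, hcc⟩ := Uniq.exists_central_mem (hT.to_quotient _) _ hne
  obtain ⟨k, hk⟩ := hT.to_quotient (B.subgroupOf T) c
  -- an element of order two among the powers of `c`
  have hord : ∃ j : ℕ, orderOf c = 2 ^ (j + 1) := by
    obtain ⟨j, -, hj⟩ := (Nat.dvd_prime_pow Nat.prime_two).1 (orderOf_dvd_of_pow_eq_one hk)
    cases j with
    | zero => exact absurd (orderOf_eq_one_iff.1 (by simpa using hj)) hc1
    | succ j => exact ⟨j, hj⟩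
  obtain ⟨j, hj⟩ := hord
  have hd1 : c ^ 2 ^ j ≠ 1 :=
    pow_ne_one_of_lt_orderOf (by positivity) (by rw [hj, pow_succ]; have := Nat.one_le_two_pow (n := j); omega)
  have hd2 : (c ^ 2 ^ j) * (c ^ 2 ^ j) = 1 := by
    rw [← pow_add, show 2 ^ j + 2 ^ j = orderOf c by rw [hj, pow_succ]; ring, pow_orderOf_eq_one]
  obtain ⟨m, hm, hmd⟩ := mem_map.1 (pow_mem hc (2 ^ j))
  have hdz : c ^ 2 ^ j ∈ center (↥T ⧸ B.subgroupOf T) := pow_mem hcc _
  refine ⟨m, mem_subgroupOf.1 hm, ?_, ?_, fun t ht => ?_⟩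
  · intro hmB
    exact hd1 (by rw [← hmd]; exact (QuotientGroup.eq_one_iff _).2 (mem_subgroupOf.2 hmB))
  · have h : π (m * m) = 1 := by rw [map_mul, hmd, hd2]
    exact mem_subgroupOf.1 ((QuotientGroup.eq_one_iff _).1 h)
  · have h : π (m⁻¹ * (⟨t, ht⟩ * m * (⟨t, ht⟩ : ↥T)⁻¹)) = 1 := by
      rw [map_mul, map_mul, map_mul, map_inv, map_inv, hmd, (mem_center_iff.1 hdz _)]
      group
    exact mem_subgroupOf.1 ((QuotientGroup.eq_one_iff _).1 h)

/-- A nontrivial element of 2-power order has a power of order two; one not squaring to one has a power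
whose square is of order two. -/
theorem exists_pow_order_four {T : Subgroup G} (hT : IsPGroup 2 ↥T) {b : G} (hb : b ∈ T)
    (h2 : b * b ≠ 1) :
    ∃ k : ℕ, (b ^ k) * (b ^ k) ≠ 1 ∧ ((b ^ k) * (b ^ k)) * ((b ^ k) * (b ^ k)) = 1 := by
  obtain ⟨n, hn⟩ := hT ⟨b, hb⟩
  have hn' : b ^ 2 ^ n = 1 := by simpa using congrArg Subtype.val hn
  have hex : ∃ n : ℕ, b ^ 2 ^ n = 1 := ⟨n, hn'⟩
  classical
  have h0 : Nat.find hex ≠ 0 := fun h => h2 (by
    have := Nat.find_spec hex
    rw [h, pow_zero, pow_one] at this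
    rw [this, one_mul])
  have h1 : Nat.find hex ≠ 1 := fun h => h2 (by
    have := Nat.find_spec hex
    rw [h, pow_one, pow_two] at this
    exact this)
  obtain ⟨i, hi⟩ : ∃ i, Nat.find hex = i + 2 := ⟨Nat.find hex - 2, by omega⟩
  refine ⟨2 ^ i, ?_, ?_⟩
  · rw [← pow_add, show 2 ^ i + 2 ^ i = 2 ^ (i + 1) by rw [pow_succ]; ring]
    exact Nat.find_min hex (by omega)
  · rw [← pow_add, ← pow_add,
      show 2 ^ i + 2 ^ i + (2 ^ i + 2 ^ i) = 2 ^ Nat.find hex by rw [hi, pow_succ, pow_succ]; ring]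
    exact Nat.find_spec hex

/-- Conjugation inside a subgroup `C` containing a Sylow subgroup `T` of the whole group. -/
theorem exists_conj_le [Finite G] [Fact (Nat.Prime 2)] (T : Sylow 2 G) {C Q : Subgroup G}
    (hTC : (T : Subgroup G) ≤ C) (hQ : IsPGroup 2 ↥Q) (hQC : Q ≤ C) :
    ∃ g ∈ C, ∀ q ∈ Q, g * q * g⁻¹ ∈ (T : Subgroup G) := by
  obtain ⟨P, hP⟩ := (hQ.of_equiv (subgroupOfEquivOfLe hQC).symm).exists_le_sylow
  obtain ⟨g, hg⟩ := MulAction.exists_smul_eq ↥C P (T.subtype hTC)
  refine ⟨(g : G), g.2, fun q hq => ?_⟩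
  have h1 : (⟨q, hQC hq⟩ : ↥C) ∈ (P : Subgroup ↥C) := hP (mem_subgroupOf.2 hq)
  have h2 : g * ⟨q, hQC hq⟩ * g⁻¹ ∈ ((g • P : Sylow 2 ↥C) : Subgroup ↥C) := by
    rw [Sylow.coe_subgroup_smul]
    exact Subgroup.mem_map.2 ⟨_, h1, rfl⟩
  rw [hg] at h2
  exact h2

variable [Finite G]

/-- The main result. -/
theorem main (A U : Subgroup G) [A.Normal]
    (hA : ∀ M : Subgroup ↥A, M.Normal → M.index ≠ 2)
    (hU2 : ∀ u ∈ U, u * u = 1) {u₁ u₂ : G} (hu₁ : u₁ ∈ U) (hu₂ : u₂ ∈ U) (h1 : u₁ ≠ 1) (h2 : u₂ ≠ 1)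
    (h12 : u₁ ≠ u₂)
    (hgood : ∀ u ∈ U, u ≠ 1 → ∀ a ∈ A, ∀ b ∈ A, a ≠ 1 → b ≠ 1 → a * a = 1 → b * b = 1 →
      u * a * u⁻¹ = a → u * b * u⁻¹ = b → a * b = b * a → a = b) :
    ∀ a ∈ A, ∀ b ∈ A, a ≠ 1 → b ≠ 1 → a * a = 1 → b * b = 1 → a * b = b * a → a = b := by
  haveI : Fact (Nat.Prime 2) := ⟨Nat.prime_two⟩
  have hUp : IsPGroup 2 ↥U := fun u => ⟨1, Subtype.ext (by simpa [pow_two] using hU2 u u.2)⟩
  obtain ⟨T, hUT⟩ := hUp.exists_le_sylow
  intro a ha b hb ha1 hb1 ha2 hb2 hab
  by_contra hne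
  let S : Subgroup G := A ⊓ (T : Subgroup G)
  have hTS : (T : Subgroup G) ≤ normalizer (S : Set G) := fun t ht =>
    mem_normalizer_iff.2 fun x => by
      have hA' : x ∈ A ↔ t * x * t⁻¹ ∈ A :=
        ⟨fun h => Subgroup.Normal.conj_mem inferInstance x h t, fun h => by
          have := Subgroup.Normal.conj_mem (inferInstance : A.Normal) _ h t⁻¹
          simpa [mul_assoc] using this⟩
      have hT' : x ∈ (T : Subgroup G) ↔ t * x * t⁻¹ ∈ (T : Subgroup G) :=
        ⟨fun h => mul_mem (mul_mem ht h) (inv_mem ht), fun h => by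
          have := mul_mem (mul_mem (inv_mem ht) h) ht
          simpa [mul_assoc] using this⟩
      simp only [S, mem_inf, hA', hT']
  -- two commuting involutions inside `S`
  obtain ⟨a', haS, ha1', ha2', b', hbS, hb1', hb2', hab', hne'⟩ :
      ∃ a' ∈ S, a' ≠ 1 ∧ a' * a' = 1 ∧ ∃ b' ∈ S, b' ≠ 1 ∧ b' * b' = 1 ∧ a' * b' = b' * a' ∧ a' ≠ b' := by
    have hpair : IsPGroup 2 ↥(closure ({a, b} : Set G)) := by
      intro x
      refine ⟨1, Subtype.ext ?_⟩
      have hx : (x : G) = 1 ∨ (x : G) = a ∨ (x : G) = b ∨ (x : G) = a * b := by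
        refine closure_induction (p := fun y _ => y = 1 ∨ y = a ∨ y = b ∨ y = a * b)
          ?_ (Or.inl rfl) ?_ ?_ x.2
        · rintro y (rfl | rfl) <;> simp
        · intro y z _ _ hy hz
          have e1 : a * (a * b) = b := by rw [← mul_assoc, ha2, one_mul]
          have e2 : a * b * b = a := by rw [mul_assoc, hb2, mul_one]
          have e3 : b * a = a * b := hab.symm
          have e4 : b * (a * b) = a := by rw [hab, ← mul_assoc, hb2, one_mul]
          have e5 : a * b * a = b := by rw [hab, mul_assoc, ha2, mul_one]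
          have e6 : a * b * (a * b) = 1 := by rw [mul_assoc, e4, ha2]
          rcases hy with h | h | h | h <;> rcases hz with h' | h' | h' | h' <;> rw [h, h'] <;>
            simp [ha2, hb2, e1, e2, e3, e4, e5, e6]
        · intro y _ hy
          have hai : a⁻¹ = a := inv_eq_of_mul_eq_one_right ha2
          have hbi : b⁻¹ = b := inv_eq_of_mul_eq_one_right hb2
          rcases hy with h | h | h | h <;> rw [h] <;> simp [hai, hbi, hab]
      have hpow : ((x : G)) ^ 2 ^ 1 = 1 := by
        rw [pow_one, pow_two]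
        rcases hx with h | h | h | h <;> rw [h]
        · simp
        · exact ha2
        · exact hb2
        · calc a * b * (a * b) = a * (b * a) * b := by group
            _ = (a * a) * (b * b) := by rw [← hab]; group
            _ = 1 := by rw [ha2, hb2, one_mul]
      simpa using hpow
    obtain ⟨g, -, hg⟩ := exists_conj_le T (C := ⊤) le_top hpair le_top
    have hin : ∀ y ∈ ({a, b} : Set G), y ∈ A → g * y * g⁻¹ ∈ S := fun y hy hyA =>
      ⟨Subgroup.Normal.conj_mem inferInstance y hyA g, hg y (subset_closure hy)⟩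
    refine ⟨g * a * g⁻¹, hin a (by simp) ha, by simpa using ha1, ?_,
      g * b * g⁻¹, hin b (by simp) hb, by simpa using hb1, ?_, ?_, by simpa using hne⟩
    · calc g * a * g⁻¹ * (g * a * g⁻¹) = g * (a * a) * g⁻¹ := by group
        _ = 1 := by rw [ha2]; group
    · calc g * b * g⁻¹ * (g * b * g⁻¹) = g * (b * b) * g⁻¹ := by group
        _ = 1 := by rw [hb2]; group
    · calc g * a * g⁻¹ * (g * b * g⁻¹) = g * (a * b) * g⁻¹ := by group
        _ = g * (b * a) * g⁻¹ := by rw [hab]
        _ = g * b * g⁻¹ * (g * a * g⁻¹) := by group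
  -- a central involution `z` of `T` inside `S`
  obtain ⟨z, hzS, hz1, hz2, hzc⟩ :
      ∃ z ∈ S, z ≠ 1 ∧ z * z = 1 ∧ ∀ t ∈ (T : Subgroup G), t * z = z * t := by
    obtain ⟨m, hm, hm1, hm2, hmc⟩ := exists_central_mod T.2 (B := ⊥) (M := S) inf_le_right
      (bot_lt_iff_ne_bot.2 fun h => ha1' (by simpa [h] using haS))
      (fun t _ => mem_normalizer_iff.2 fun x => by simp) hTS
    refine ⟨m, hm, fun h => hm1 (by simp [h]), mem_bot.1 hm2, fun t ht => ?_⟩
    have h := mem_bot.1 (hmc t ht)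
    rw [inv_mul_eq_one] at h
    calc t * m = t * m * t⁻¹ * t := by group
      _ = m * t := by rw [← h]
  have hzA : z ∈ A := hzS.1
  have hzconj : ∀ t ∈ (T : Subgroup G), t * z * t⁻¹ = z := fun t ht => by
    rw [hzc t ht]; group
  -- pairs of involutions of `S` stable under `T`
  have hpick : ∀ e ∈ S, e * e = 1 →
      (∀ t ∈ (T : Subgroup G), t * e * t⁻¹ = e ∨ t * e * t⁻¹ = e * z) → e = 1 ∨ e = z := by
    intro e heS he2 her
    by_contra hcon
    push Not at hcon
    obtain ⟨u, hu, hu1, huf⟩ := exists_fix_of_pair hu₁ hu₂ h1 h2 h12 fun u hu => her u (hUT hu)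
    exact hcon.2 (hgood u hu hu1 e heS.1 z hzA hcon.1 hz1 he2 hz2 huf (hzconj u (hUT hu))
      (hzc e heS.2))
  -- maximal abelian subgroup of `S` normalised by `T`
  let P : Set (Subgroup G) := {B | B ≤ S ∧ z ∈ B ∧ (T : Subgroup G) ≤ normalizer (B : Set G) ∧
    ∀ x ∈ B, ∀ y ∈ B, x * y = y * x}
  have hPne : zpowers z ∈ P := by
    refine ⟨zpowers_le.2 hzS, mem_zpowers z, fun t ht => ?_, ?_⟩
    · refine mem_normalizer_iff.2 fun x => ⟨?_, fun hx => ?_⟩
      · rintro ⟨i, rfl⟩
        exact ⟨i, by beta_reduce; rw [← conj_zpow, hzconj t ht]⟩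
      · obtain ⟨i, hi⟩ := hx
        refine ⟨i, ?_⟩
        have h : z ^ i = t⁻¹ * z ^ i * t := by
          have := Commute.zpow_right (show Commute t z from hzc t ht) i
          rw [mul_assoc, ← this.eq]; group
        beta_reduce at hi ⊢
        rw [h, hi]; group
    · rintro x ⟨i, rfl⟩ y ⟨j, rfl⟩
      exact zpow_mul_comm z i j
  obtain ⟨B, ⟨hBS, hzB, hBn, hBc⟩, hBmax⟩ :=
    P.toFinite.exists_maximal ⟨_, hPne⟩
  have hmaxB : ∀ B' ∈ P, B ≤ B' → B' ≤ B := fun B' h1 h2 => hBmax h1 h2
  -- involutions of `B`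
  have hBinv : ∀ e ∈ B, e * e = 1 → e = 1 ∨ e = z := by
    by_contra hcon
    push Not at hcon
    obtain ⟨e, he, he2, he1, hez⟩ := hcon
    let E : Subgroup G :=
      { carrier := {x | x ∈ B ∧ x * x = 1}
        one_mem' := ⟨B.one_mem, one_mul 1⟩
        mul_mem' := fun {x y} hx hy => ⟨B.mul_mem hx.1 hy.1, by
          calc x * y * (x * y) = x * (y * x) * y := by group
            _ = (x * x) * (y * y) := by rw [← hBc x hx.1 y hy.1]; group
            _ = 1 := by rw [hx.2, hy.2, one_mul]⟩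
        inv_mem' := fun {x} hx => ⟨B.inv_mem hx.1, by rw [← mul_inv_rev, hx.2, inv_one]⟩ }
    let Z : Subgroup G :=
      { carrier := {x | x = 1 ∨ x = z}
        one_mem' := Or.inl rfl
        mul_mem' := fun {x y} hx hy => by
          rcases hx with rfl | rfl <;> rcases hy with rfl | rfl <;> simp [hz2]
        inv_mem' := fun {x} hx => by
          rcases hx with rfl | rfl
          · simp
          · exact Or.inr (inv_eq_of_mul_eq_one_right hz2) }
    have hnorm : ∀ (K : Subgroup G), (∀ t ∈ (T : Subgroup G), ∀ x ∈ K, t * x * t⁻¹ ∈ K) →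
        (T : Subgroup G) ≤ normalizer (K : Set G) := fun K h t ht =>
      mem_normalizer_iff.2 fun x => ⟨h t ht x, fun hx => by
        have := h t⁻¹ (inv_mem ht) _ hx
        simpa [mul_assoc] using this⟩
    have hZE : Z < E := by
      refine lt_of_le_of_ne ?_ fun h => ?_
      · rintro x (rfl | rfl)
        · exact E.one_mem
        · exact ⟨hzB, hz2⟩
      · have : e ∈ Z := h ▸ (show e ∈ E from ⟨he, he2⟩)
        rcases this with h' | h'
        · exact he1 h'
        · exact hez h'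
    obtain ⟨m, hm, hmZ, -, hmc⟩ := exists_central_mod T.2
      (show E ≤ (T : Subgroup G) from fun x hx => (hBS (show x ∈ B ∧ x * x = 1 from hx).1).2) hZE
      (hnorm Z fun t ht x hx => by
        rcases hx with rfl | rfl
        · exact Or.inl (by group)
        · exact Or.inr (hzconj t ht))
      (hnorm E fun t ht x hx => ⟨(mem_normalizer_iff.1 (hBn ht) x).1 hx.1, by
        calc t * x * t⁻¹ * (t * x * t⁻¹) = t * (x * x) * t⁻¹ := by group
          _ = 1 := by rw [hx.2]; group⟩)
    refine hmZ (hpick m (hBS hm.1) hm.2 fun t ht => ?_)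
    rcases hmc t ht with h | h
    · exact Or.inl (inv_mul_eq_one.1 h).symm
    · exact Or.inr (by rw [← h]; group)
  -- the general extension step
  have hext : ∀ M : Subgroup G, M ≤ S → B < M → (T : Subgroup G) ≤ normalizer (M : Set G) →
      ∃ m ∈ M, m ∉ B ∧ m * m ∈ B ∧ (∀ t ∈ (T : Subgroup G), m⁻¹ * (t * m * t⁻¹) ∈ B) ∧
        ∃ b ∈ B, m * b * m⁻¹ ≠ b := by
    intro M hMS hBM hMn
    obtain ⟨m, hm, hmB, hm2, hmc⟩ := exists_central_mod T.2 (hMS.trans inf_le_right) hBM hBn hMn
    refine ⟨m, hm, hmB, hm2, hmc, ?_⟩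
    by_contra hcon
    push Not at hcon
    have hcm : ∀ b ∈ B, m * b = b * m := fun b hb => by
      calc m * b = m * b * m⁻¹ * m := by group
        _ = b * m := by rw [hcon b hb]
    let B' : Subgroup G := closure (insert m (B : Set G))
    have hB'c : ∀ x ∈ B', ∀ y ∈ B', x * y = y * x := by
      have := isMulCommutative_closure (k := insert m (B : Set G)) (by
        rintro x (rfl | hx) y (rfl | hy)
        · rfl
        · exact hcm y hy
        · exact (hcm x hx).symm
        · exact hBc x hx y hy)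
      exact fun x hx y hy => congrArg Subtype.val (this.is_comm.comm ⟨x, hx⟩ ⟨y, hy⟩)
    have hBB' : B ≤ B' := fun x hx => subset_closure (Or.inr hx)
    have hmem : B' ∈ P := by
      refine ⟨(closure_le _).2 ?_, hBB' hzB, fun t ht => ?_, hB'c⟩
      · rintro x (rfl | hx)
        · exact hMS hm
        · exact hBS hx
      · have key : ∀ t ∈ (T : Subgroup G), ∀ x ∈ B', t * x * t⁻¹ ∈ B' := by
          intro t ht x hx
          have hle : B' ≤ B'.comap (MulAut.conj t).toMonoidHom := (closure_le _).2 (by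
            rintro y (rfl | hy)
            · show t * y * t⁻¹ ∈ B'
              have : t * y * t⁻¹ = y * (y⁻¹ * (t * y * t⁻¹)) := by group
              rw [this]
              exact mul_mem (subset_closure (Or.inl rfl)) (hBB' (hmc t ht))
            · exact hBB' ((mem_normalizer_iff.1 (hBn ht) y).1 hy))
          exact hle hx
        exact mem_normalizer_iff.2 fun x => ⟨key t ht x, fun hx => by
          have := key t⁻¹ (inv_mem ht) _ hx
          simpa [mul_assoc] using this⟩
    exact hmB (hmaxB B' hmem hBB' (subset_closure (Or.inl rfl)))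
  have hSne : ¬ ∀ x ∈ S, x ∈ B := fun h => by
    rcases hBinv a' (h _ haS) ha2' with h' | h' <;> rcases hBinv b' (h _ hbS) hb2' with h'' | h''
    exacts [ha1' h', ha1' h', hb1' h'', hne' (h'.trans h''.symm)]
  -- an element of order four in `B`
  obtain ⟨x, hxB, hxx⟩ : ∃ x ∈ B, x * x = z := by
    obtain ⟨m, hmS, -, -, -, c, hc, hmc⟩ := hext S le_rfl (lt_of_le_of_ne hBS fun h => hSne (by
      rw [← h]; exact fun x hx => hx)) hTS
    have hc2 : c * c ≠ 1 := fun h => by
      rcases hBinv c hc h with rfl | rfl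
      · exact hmc (by group)
      · exact hmc (hzconj m hmS.2)
    obtain ⟨k, hk1, hk2⟩ := exists_pow_order_four T.2 (hBS hc).2 hc2
    refine ⟨c ^ k, pow_mem hc k, ?_⟩
    rcases hBinv _ (mul_mem (pow_mem hc k) (pow_mem hc k)) hk2 with h | h
    · exact absurd h hk1
    · exact h
  have hxne : x ≠ x⁻¹ := fun h => hz1 (by rw [← hxx]; exact mul_eq_one_iff_eq_inv.2 h)
  have hroot : ∀ y ∈ B, y * y = z → y = x ∨ y = x⁻¹ := by
    intro y hy hyy
    have hsq : x⁻¹ * y * (x⁻¹ * y) = 1 := by
      calc x⁻¹ * y * (x⁻¹ * y) = x⁻¹ * (y * x⁻¹) * y := by group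
        _ = (x * x)⁻¹ * (y * y) := by rw [hBc y hy x⁻¹ (inv_mem hxB)]; group
        _ = 1 := by rw [hxx, hyy, inv_mul_cancel]
    rcases hBinv _ (mul_mem (inv_mem hxB) hy) hsq with h | h
    · exact Or.inl (inv_mul_eq_one.1 h).symm
    · right
      calc y = x * (x⁻¹ * y) := by group
        _ = x * z := by rw [h]
        _ = x⁻¹ := by
          rw [← hxx]
          apply eq_inv_of_mul_eq_one_left
          calc x * (x * x) * x = (x * x) * (x * x) := by group
            _ = 1 := by rw [hxx, hz2]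
  have hTx : ∀ t ∈ (T : Subgroup G), t * x * t⁻¹ = x ∨ t * x * t⁻¹ = x⁻¹ := fun t ht =>
    hroot _ ((mem_normalizer_iff.1 (hBn ht) x).1 hxB) (by
      calc t * x * t⁻¹ * (t * x * t⁻¹) = t * (x * x) * t⁻¹ := by group
        _ = z := by rw [hxx, hzconj t ht])
  -- the centraliser of `x` in `S` is `B`
  have hCB : ∀ s ∈ S, s * x = x * s → s ∈ B := by
    let M : Subgroup G := S ⊓ centralizer ({x} : Set G)
    have hBM : B ≤ M := fun y hy => ⟨hBS hy, mem_centralizer_singleton_iff.2 (hBc y hy x hxB)⟩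
    suffices hMB : M ≤ B from fun s hs hsx => hMB ⟨hs, mem_centralizer_singleton_iff.2 hsx⟩
    by_contra hcon
    have hMn : (T : Subgroup G) ≤ normalizer (M : Set G) := by
      have key : ∀ t ∈ (T : Subgroup G), ∀ y ∈ M, t * y * t⁻¹ ∈ M := by
        intro t ht y hy
        refine ⟨(mem_normalizer_iff.1 (hTS ht) y).1 hy.1, mem_centralizer_singleton_iff.2 ?_⟩
        have hyx : Commute y x := mem_centralizer_singleton_iff.1 hy.2
        have hc : Commute (t * y * t⁻¹) (t * x * t⁻¹) := hyx.map (MulAut.conj t).toMonoidHom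
        rcases hTx t ht with h | h <;> rw [h] at hc
        · exact hc.eq
        · simpa using hc.inv_right.eq
      exact fun t ht => mem_normalizer_iff.2 fun y => ⟨key t ht y, fun hy => by
        have := key t⁻¹ (inv_mem ht) _ hy
        simpa [mul_assoc] using this⟩
    obtain ⟨m, hmM, hmB, hm2, hmc, c₀, hc₀, hmc₀⟩ := hext M inf_le_left
      (lt_of_le_of_ne hBM fun h => hcon h.ge) hMn
    have hmx : m * x * m⁻¹ = x := by
      rw [mem_centralizer_singleton_iff.1 hmM.2]; group
    have hmconj : ∀ y ∈ B, m * y * m⁻¹ ∈ B := fun y hy =>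
      (mem_normalizer_iff.1 (hBn hmM.1.2) y).1 hy
    -- `δ`
    have hδ : ∀ y ∈ B, m * y * m⁻¹ = y ∨ m * y * m⁻¹ = y * z := by
      intro y hy
      let d := y⁻¹ * (m * y * m⁻¹)
      have hd : d ∈ B := mul_mem (inv_mem hy) (hmconj y hy)
      have hinv : m * d * m⁻¹ = d⁻¹ := by
        have hmm : m * (m * y * m⁻¹) * m⁻¹ = y := by
          calc m * (m * y * m⁻¹) * m⁻¹ = (m * m) * y * (m * m)⁻¹ := by group
            _ = y := by rw [hBc _ hm2 y hy]; group
        calc m * d * m⁻¹ = (m * y * m⁻¹)⁻¹ * (m * (m * y * m⁻¹) * m⁻¹) := by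
              simp only [d]; group
          _ = d⁻¹ := by rw [hmm]; simp only [d]; group
      have hd2 : d * d = 1 := by
        by_contra h
        obtain ⟨k, hk1, hk2⟩ := exists_pow_order_four T.2 (hBS hd).2 h
        have hkz : (d ^ k) * (d ^ k) = z :=
          ((hBinv _ (mul_mem (pow_mem hd k) (pow_mem hd k)) hk2).resolve_left hk1)
        have h1 : m * d ^ k * m⁻¹ = (d ^ k)⁻¹ := by rw [← conj_pow, hinv, inv_pow]
        have h3 : (d ^ k) = (d ^ k)⁻¹ := by
          rcases hroot _ (pow_mem hd k) hkz with h | h <;> rw [h] at h1 ⊢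
          · rw [← h1, hmx]
          · rw [← conj_inv, hmx, inv_inv] at h1
            rw [inv_inv]; exact h1
        exact hk1 (mul_eq_one_iff_eq_inv.2 h3)
      rcases hBinv d hd hd2 with h | h
      · exact Or.inl (inv_mul_eq_one.1 h).symm
      · exact Or.inr (by rw [← h]; simp only [d]; group)
    -- squares exhaust the fixed points
    obtain ⟨c₁, hc₁, hc₁m⟩ : ∃ c₁ ∈ B, c₁ * c₁ = m * m := by
      by_contra hno
      push Not at hno
      let K : Subgroup G :=
        { carrier := {y | y ∈ B ∧ m * y * m⁻¹ = y}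
          one_mem' := ⟨B.one_mem, by group⟩
          mul_mem' := fun {p q} hp hq => ⟨B.mul_mem hp.1 hq.1, by rw [← conj_mul, hp.2, hq.2]⟩
          inv_mem' := fun {p} hp => ⟨B.inv_mem hp.1, by rw [← conj_inv, hp.2]⟩ }
      let sq : ↥B →* ↥B :=
        { toFun := fun y => y * y
          map_one' := one_mul 1
          map_mul' := fun p q => Subtype.ext (by
            show (p : G) * q * (p * q) = p * p * (q * q)
            calc (p : G) * q * (p * q) = p * (q * p) * q := by group
              _ = p * p * (q * q) := by rw [← hBc p p.2 q q.2]; group) }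
      have hrange : sq.range < K.subgroupOf B := by
        refine lt_of_le_of_ne ?_ fun h => ?_
        · rintro _ ⟨y, rfl⟩
          refine mem_subgroupOf.2 ⟨(sq y).2, ?_⟩
          show m * ((y : G) * y) * m⁻¹ = y * y
          rw [← conj_mul]
          rcases hδ y y.2 with h | h <;> rw [h]
          calc (y : G) * z * (y * z) = y * (z * y) * z := by group
            _ = y * y * (z * z) := by rw [← hzc _ (hBS y.2).2]; group
            _ = y * y := by rw [hz2, mul_one]
        · have hmm : (⟨m * m, hm2⟩ : ↥B) ∈ K.subgroupOf B :=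
            mem_subgroupOf.2 ⟨hm2, by group⟩
          rw [← h] at hmm
          obtain ⟨y, hy⟩ := hmm
          exact hno y y.2 (congrArg Subtype.val hy)
      have h1 : Nat.card sq.range * Nat.card sq.ker = Nat.card ↥B := by
        rw [mul_comm, ← Subgroup.index_ker, Subgroup.card_mul_index]
      have h2 : Nat.card sq.ker ≤ 2 := by
        have : (sq.ker : Set ↥B) ⊆ {1, ⟨z, hzB⟩} := fun y hy => by
          rcases hBinv y y.2 (congrArg Subtype.val (MonoidHom.mem_ker.1 hy)) with h | h
          · exact Or.inl (Subtype.ext h)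
          · exact Or.inr (Subtype.ext h)
        exact (Set.ncard_le_ncard this).trans ((Set.ncard_insert_le _ _).trans (by simp))
      have h3 : 2 * Nat.card sq.range ≤ Nat.card (K.subgroupOf B) := by
        obtain ⟨i, hi⟩ := Subgroup.card_dvd_of_le hrange.le
        have hlt : Nat.card sq.range < Nat.card (K.subgroupOf B) := by
          refine lt_of_le_of_ne (Subgroup.card_le_of_le hrange.le) fun h => ?_
          exact hrange.ne (Subgroup.eq_of_le_of_card_ge hrange.le h.ge)
        rcases i with _ | _ | i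
        · have := Nat.card_pos (α := ↥(K.subgroupOf B))
          rw [hi, mul_zero] at this
          omega
        · rw [zero_add, mul_one] at hi
          omega
        · rw [hi]; nlinarith
      have h4 : 2 * Nat.card (K.subgroupOf B) ≤ Nat.card ↥B := by
        rw [← Subgroup.card_mul_index (K.subgroupOf B), mul_comm]
        refine Nat.mul_le_mul_left _ ?_
        have hne1 : (K.subgroupOf B).index ≠ 1 := fun h => by
          have := mem_subgroupOf.1 (show (⟨c₀, hc₀⟩ : ↥B) ∈ K.subgroupOf B by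
            rw [Subgroup.index_eq_one.1 h]; trivial)
          exact hmc₀ this.2
        have := Subgroup.index_ne_zero_of_finite (H := K.subgroupOf B)
        omega
      have h5 : 0 < Nat.card sq.range := Nat.card_pos
      nlinarith
    -- an involution outside `B`
    obtain ⟨e, hem, he2⟩ : ∃ e : G, m⁻¹ * e ∈ B ∧ e * e = 1 := by
      have hcm : c₁⁻¹ * m = m * c₁⁻¹ ∨ c₁⁻¹ * m * z = m * c₁⁻¹ := by
        rcases hδ c₁⁻¹ (inv_mem hc₁) with h | h
        · exact Or.inl (by nth_rw 1 [← h]; group)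
        · right
          rw [mul_assoc, hzc m hmM.1.2, ← mul_assoc, ← h]; group
      rcases hcm with h | h
      · refine ⟨m * c₁⁻¹, by simpa using hc₁, ?_⟩
        calc m * c₁⁻¹ * (m * c₁⁻¹) = m * (c₁⁻¹ * m) * c₁⁻¹ := by group
          _ = (m * m) * (c₁ * c₁)⁻¹ := by rw [h]; group
          _ = 1 := by rw [hc₁m, mul_inv_cancel]
      · refine ⟨m * c₁⁻¹ * x, by simpa [mul_assoc] using mul_mem (inv_mem hc₁) hxB, ?_⟩
        have hxc : x * c₁⁻¹ = c₁⁻¹ * x := hBc x hxB _ (inv_mem hc₁)
        have hxm : x * m = m * x := (mem_centralizer_singleton_iff.1 hmM.2).symm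
        have hxw : Commute x (m * c₁⁻¹) := Commute.mul_right hxm hxc
        have hw : m * c₁⁻¹ * (m * c₁⁻¹) = z := by
          have hzc1 : z * c₁⁻¹ = c₁⁻¹ * z := (hzc _ (inv_mem (hBS hc₁).2)).symm
          have hzm : z * m = m * z := (hzc _ hmM.1.2).symm
          have h' : c₁⁻¹ * m = m * c₁⁻¹ * z := by
            calc c₁⁻¹ * m = c₁⁻¹ * m * (z * z) := by rw [hz2, mul_one]
              _ = m * c₁⁻¹ * z := by rw [← mul_assoc, h]
          calc m * c₁⁻¹ * (m * c₁⁻¹) = m * (c₁⁻¹ * m) * c₁⁻¹ := by group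
            _ = m * m * c₁⁻¹ * (z * c₁⁻¹) := by rw [h']; group
            _ = (m * m) * (c₁ * c₁)⁻¹ * z := by rw [hzc1]; group
            _ = z := by rw [hc₁m, mul_inv_cancel, one_mul]
        calc m * c₁⁻¹ * x * (m * c₁⁻¹ * x) = m * c₁⁻¹ * (x * (m * c₁⁻¹)) * x := by group
          _ = (m * c₁⁻¹ * (m * c₁⁻¹)) * (x * x) := by rw [hxw.eq]; group
          _ = 1 := by rw [hw, hxx, hz2]
    have heB : e ∉ B := fun h => hmB (by
      have := mul_mem h (inv_mem hem)
      simpa [mul_assoc] using this)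
    have heS : e ∈ S := by
      have := S.mul_mem hmM.1 (hBS hem)
      simpa [← mul_assoc] using this
    rcases hpick e heS he2 (fun t ht => by
      let c := e⁻¹ * (t * e * t⁻¹)
      have hcB : c ∈ B := by
        have : c = (m⁻¹ * e)⁻¹ * (m⁻¹ * (t * m * t⁻¹)) * (t * (m⁻¹ * e) * t⁻¹) := by
          simp only [c]; group
        rw [this]
        exact mul_mem (mul_mem (inv_mem hem) (hmc t ht))
          ((mem_normalizer_iff.1 (hBn ht) _).1 hem)
      have hec : e * c * (e * c) = 1 := by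
        simp only [c]
        calc e * (e⁻¹ * (t * e * t⁻¹)) * (e * (e⁻¹ * (t * e * t⁻¹))) = t * (e * e) * t⁻¹ := by group
          _ = 1 := by rw [he2]; group
      -- `e` acts on `B` as `m` does
      have hec2 : e * c * e⁻¹ = c ∨ e * c * e⁻¹ = c * z := by
        have hconj : e * c * e⁻¹ = m * c * m⁻¹ := by
          have h' : (m⁻¹ * e) * c = c * (m⁻¹ * e) := hBc _ hem c hcB
          calc e * c * e⁻¹ = m * ((m⁻¹ * e) * c) * e⁻¹ := by group
            _ = m * c * m⁻¹ := by rw [h']; group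
        rw [hconj]; exact hδ c hcB
      have hcc : c * c = 1 ∨ c * c = z := by
        have hei : e⁻¹ = e := inv_eq_of_mul_eq_one_right he2
        have h' : (e * c * e⁻¹) * c = 1 := by rw [hei, mul_assoc]; exact hec
        rcases hec2 with h'' | h'' <;> rw [h''] at h'
        · exact Or.inl h'
        · right
          calc c * c = c * c * (z * z) := by rw [hz2, mul_one]
            _ = c * (c * z) * z := by group
            _ = c * (z * c) * z := by rw [hzc c (hBS hcB).2]
            _ = z := by rw [← mul_assoc, h', one_mul]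
      rcases hcc with h | h
      · rcases hBinv c hcB h with h' | h'
        · exact Or.inl (inv_mul_eq_one.1 h').symm
        · exact Or.inr (by rw [← h']; simp only [c]; group)
      · exfalso
        have hex : e * c * e⁻¹ = c := by
          have hxe : e * x * e⁻¹ = x := by
            have h' : (m⁻¹ * e) * x = x * (m⁻¹ * e) := hBc _ hem x hxB
            calc e * x * e⁻¹ = m * ((m⁻¹ * e) * x) * e⁻¹ := by group
              _ = m * x * m⁻¹ := by rw [h']; group
              _ = x := hmx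
          rcases hroot c hcB h with h' | h' <;> rw [h']
          · exact hxe
          · rw [← conj_inv, hxe]
        have hei : e⁻¹ = e := inv_eq_of_mul_eq_one_right he2
        have h' : (e * c * e⁻¹) * c = 1 := by rw [hei, mul_assoc]; exact hec
        rw [hex, h] at h'
        exact hz1 h') with h | h
    · exact heB (h ▸ B.one_mem)
    · exact heB (h ▸ hzB)
  have hinvx : ∀ s ∈ S, s ∉ B → s * x * s⁻¹ = x⁻¹ := fun s hs hsB =>
    (hTx s hs.2).resolve_left fun h => hsB (hCB s hs (by nth_rw 2 [← h]; group))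
  -- the set of bad involutions
  let Inv : Set G := {s | s ∈ S ∧ s * s = 1 ∧ s ∉ B}
  have hInvne : Inv.Nonempty := by
    by_cases h : a' ∈ B
    · refine ⟨b', hbS, hb2', fun h' => hne' ?_⟩
      rw [((hBinv a' h ha2').resolve_left ha1'), ((hBinv b' h' hb2').resolve_left hb1')]
    · exact ⟨a', haS, ha2', h⟩
  obtain ⟨s, ⟨hsS, hs2, hsB⟩, hsmax⟩ := Inv.exists_max_image
    (fun s => Nat.card ↥((T : Subgroup G) ⊓ centralizer ({s} : Set G))) Inv.toFinite hInvne
  have hsi : s⁻¹ = s := inv_eq_of_mul_eq_one_right hs2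
  have hsx := hinvx s hsS hsB
  -- fusion of `s` and `z` in `A`
  obtain ⟨g, hgA, hgs⟩ : ∃ g ∈ A, g * s * g⁻¹ = z := by
    obtain ⟨SA, hSA⟩ := Transfer.exists_sylow_inf T A
    have hmemS : ∀ y : ↥A, y ∈ (SA : Subgroup ↥A) ↔ (y : G) ∈ S := fun y => by
      rw [hSA, mem_subgroupOf]; exact ⟨fun h => ⟨y.2, h⟩, fun h => h.2⟩
    let Q : Subgroup ↥A := B.subgroupOf A
    have hQle : Q ≤ (SA : Subgroup ↥A) := fun y hy => (hmemS y).2 (hBS (mem_subgroupOf.1 hy))
    have hQi : Q.relIndex (SA : Subgroup ↥A) = 2 := by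
      refine Subgroup.index_eq_two_iff.2 ⟨⟨⟨s, hsS.1⟩, (hmemS _).2 hsS⟩, fun y => ?_⟩
      have hyS : ((y : ↥A) : G) ∈ S := (hmemS _).1 y.2
      simp only [mem_subgroupOf, Q, Subgroup.coe_mul]
      by_cases hy : ((y : ↥A) : G) ∈ B
      · refine Or.inr ⟨hy, fun h => hsB ?_⟩
        have := mul_mem (inv_mem hy) h
        simpa using this
      · refine Or.inl ⟨hCB _ (mul_mem hyS hsS) ?_, hy⟩
        have h1 := hinvx _ hyS hy
        have : ((y : ↥A) : G) * s * x * (((y : ↥A) : G) * s)⁻¹ = x := by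
          calc ((y : ↥A) : G) * s * x * (((y : ↥A) : G) * s)⁻¹
              = ((y : ↥A) : G) * (s * x * s⁻¹) * ((y : ↥A) : G)⁻¹ := by group
            _ = x := by rw [hsx, ← conj_inv, h1, inv_inv]
        nth_rw 2 [← this]; group
    have hord : orderOf (⟨s, hsS.1⟩ : ↥A) = 2 := by
      refine orderOf_eq_prime (Subtype.ext (by simpa [pow_two] using hs2)) fun h => hsB ?_
      have : s = 1 := congrArg Subtype.val h
      exact this ▸ B.one_mem
    rcases Cfsg.Agent.S0111.result SA Q hQle hQi ⟨s, hsS.1⟩ hord ((hmemS _).2 hsS)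
        (fun h => hsB (mem_subgroupOf.1 h)) with ⟨M, hM, hM2, -⟩ | ⟨g, hg⟩
    · exact absurd hM2 (hA M hM)
    · refine ⟨g, g.2, ?_⟩
      have hgB : (g : G) * s * (g : G)⁻¹ ∈ B := mem_subgroupOf.1 hg
      refine (hBinv _ hgB ?_).resolve_left fun h => hsB ?_
      · calc (g : G) * s * (g : G)⁻¹ * ((g : G) * s * (g : G)⁻¹) = g * (s * s) * (g : G)⁻¹ := by group
          _ = 1 := by rw [hs2]; group
      · have : s = 1 := by simpa using h
        exact this ▸ B.one_mem
  -- an element of `U` centralising `x`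
  obtain ⟨u, hu, hu1, hux⟩ := exists_fix_of_pair hu₁ hu₂ h1 h2 h12 fun u hu => hTx u (hUT hu)
  have hui : u⁻¹ = u := inv_eq_of_mul_eq_one_right (hU2 u hu)
  have hus : u * s * u⁻¹ = s * z := by
    let s' := u * s * u⁻¹
    have hs'S : s' ∈ S := (mem_normalizer_iff.1 (hTS (hUT hu)) s).1 hsS
    let y := s * s'
    have hyB : y ∈ B := by
      refine hCB y (mul_mem hsS hs'S) ?_
      have hs'x : s' * x * s'⁻¹ = x⁻¹ := by
        refine hinvx s' hs'S fun h => hsB ?_
        have := (mem_normalizer_iff.1 (hBn (inv_mem (hUT hu))) s').1 h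
        simpa [s', mul_assoc] using this
      have : y * x * y⁻¹ = x := by
        calc y * x * y⁻¹ = s * (s' * x * s'⁻¹) * s⁻¹ := by simp only [y]; group
          _ = x := by rw [hs'x, ← conj_inv, hsx, inv_inv]
      nth_rw 2 [← this]; group
    have huy : u * y * u⁻¹ = y⁻¹ := by
      have hs'' : u * s' * u⁻¹ = s := by
        calc u * s' * u⁻¹ = (u * u) * s * (u * u)⁻¹ := by simp only [s']; group
          _ = s := by rw [hU2 u hu]; group
      calc u * y * u⁻¹ = (u * s * u⁻¹) * (u * s' * u⁻¹) := by simp only [y]; group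
        _ = s' * s := by rw [hs'']
        _ = y⁻¹ := by
          simp only [y, s', mul_inv_rev, inv_inv, hsi]
          group
    have hy2 : y * y = 1 := by
      by_contra h
      obtain ⟨k, hk1, hk2⟩ := exists_pow_order_four T.2 (hBS hyB).2 h
      have hkz : (y ^ k) * (y ^ k) = z :=
        ((hBinv _ (mul_mem (pow_mem hyB k) (pow_mem hyB k)) hk2).resolve_left hk1)
      have h1 : u * y ^ k * u⁻¹ = (y ^ k)⁻¹ := by rw [← conj_pow, huy, inv_pow]
      have h3 : (y ^ k) = (y ^ k)⁻¹ := by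
        rcases hroot _ (pow_mem hyB k) hkz with h | h <;> rw [h] at h1 ⊢
        · rw [← h1, hux]
        · rw [← conj_inv, hux, inv_inv] at h1
          rw [inv_inv]; exact h1
      exact hk1 (mul_eq_one_iff_eq_inv.2 h3)
    rcases hBinv y hyB hy2 with h | h
    · exfalso
      have hfix : u * s * u⁻¹ = s := (eq_inv_of_mul_eq_one_right h).trans hsi
      refine hsB ?_
      have hsz : s = z := hgood u hu hu1 s hsS.1 z hzA
        (fun h => hsB (h ▸ B.one_mem)) hz1 hs2 hz2 hfix (hzconj u (hUT hu)) (hzc s hsS.2)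
      exact hsz ▸ hzB
    · show s' = s * z
      calc s' = (s * s) * s' := by rw [hs2, one_mul]
        _ = s * z := by rw [← h]; simp only [y]; group
  -- a square root `w` of `z` centralising `s`
  let w := x * u
  have hux' : u * x = x * u := by nth_rw 2 [← hux]; group
  have hww : w * w = z := by
    calc w * w = x * (u * x) * u := by simp only [w]; group
      _ = (x * x) * (u * u) := by rw [hux']; group
      _ = z := by rw [hxx, hU2 u hu, mul_one]
  let R : Subgroup G := (T : Subgroup G) ⊓ centralizer ({s} : Set G)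
  have hwR : w ∈ R := by
    refine ⟨mul_mem (hBS hxB).2 (hUT hu), mem_centralizer_singleton_iff.2 ?_⟩
    have hsx' : x * s = s * x⁻¹ := by rw [← hsx, hsi]; simp [← mul_assoc, hs2]
    have hz' : z * u = u * z := (hzc u (hUT hu)).symm
    calc w * s = x * (u * s * u⁻¹) * u := by simp only [w]; group
      _ = (x * s) * (z * u) := by rw [hus]; group
      _ = s * (x⁻¹ * z) * u := by rw [hsx']; group
      _ = s * w := by rw [← hxx]; simp only [w]; group
  -- the squares in `R` which are involutions of `A` are all equal to `z`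
  have hsq : ∀ t ∈ R, t * t ∈ A → t * t * (t * t) = 1 → t * t ≠ 1 → t * t = z := by
    intro t ht htA ht4 ht2
    have htt : t * t * x = x * (t * t) := by
      have h2 : (t * t) * x * (t * t)⁻¹ = x := by
        calc (t * t) * x * (t * t)⁻¹ = t * (t * x * t⁻¹) * t⁻¹ := by group
          _ = x := by
            rcases hTx t ht.1 with h | h
            · rw [h, h]
            · rw [h, ← conj_inv, h, inv_inv]
      nth_rw 2 [← h2]; group
    exact (hBinv _ (hCB _ ⟨htA, mul_mem ht.1 ht.1⟩ htt) ht4).resolve_left ht2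
  -- `R` is maximal among 2-subgroups centralising `s` and `z`
  have hTz : (T : Subgroup G) ≤ centralizer ({z} : Set G) := fun t ht =>
    mem_centralizer_singleton_iff.2 (hzc t ht)
  have hRmax : ∀ R' : Subgroup G, IsPGroup 2 ↥R' → R ≤ R' → R' ≤ centralizer ({s} : Set G) →
      R' ≤ centralizer ({z} : Set G) → R' ≤ R := by
    intro R' hR'2 hRR' hR's hR'z
    obtain ⟨g, hg, hgT⟩ := exists_conj_le T hTz hR'2 hR'z
    have hgz : g * z * g⁻¹ = z := by rw [mem_centralizer_singleton_iff.1 hg]; group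
    have hsR : s ∈ R := ⟨hsS.2, mem_centralizer_singleton_iff.2 rfl⟩
    have hs' : g * s * g⁻¹ ∈ Inv := by
      refine ⟨⟨Subgroup.Normal.conj_mem inferInstance s hsS.1 g, hgT s (hRR' hsR)⟩, ?_, fun h => ?_⟩
      · calc g * s * g⁻¹ * (g * s * g⁻¹) = g * (s * s) * g⁻¹ := by group
          _ = 1 := by rw [hs2]; group
      · rcases hBinv _ h (by
          calc g * s * g⁻¹ * (g * s * g⁻¹) = g * (s * s) * g⁻¹ := by group
            _ = 1 := by rw [hs2]; group) with h' | h'
        · exact hsB ((show s = 1 by simpa using h') ▸ B.one_mem)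
        · refine hsB (?_ : s ∈ B)
          rw [show s = z from mul_left_cancel (mul_right_cancel (h'.trans hgz.symm))]
          exact hzB
    have hle : R'.map (MulAut.conj g).toMonoidHom ≤
        (T : Subgroup G) ⊓ centralizer ({g * s * g⁻¹} : Set G) := by
      rintro _ ⟨r, hr, rfl⟩
      refine ⟨hgT r hr, mem_centralizer_singleton_iff.2 ?_⟩
      exact (Commute.map (show Commute r s from mem_centralizer_singleton_iff.1 (hR's hr))
        (MulAut.conj g).toMonoidHom).eq
    have hcard : Nat.card ↥R' ≤ Nat.card ↥R := by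
      refine le_trans ?_ ((Subgroup.card_le_of_le hle).trans (hsmax _ hs'))
      rw [Nat.card_congr (R'.equivMapOfInjective (f := (MulAut.conj g).toMonoidHom) (MulAut.conj g).injective).toEquiv]
    exact (Subgroup.eq_of_le_of_card_ge hRR' hcard).ge
  -- a bigger 2-subgroup in the centraliser of `s`
  have hR2 : IsPGroup 2 ↥R := T.2.to_le inf_le_left
  let C : Subgroup G := centralizer ({s} : Set G)
  obtain ⟨P0, hP0⟩ := (hR2.of_equiv
    (subgroupOfEquivOfLe (inf_le_right : R ≤ C)).symm).exists_le_sylow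
  let P : Subgroup G := (P0 : Subgroup ↥C).map C.subtype
  have hP2 : IsPGroup 2 ↥P := P0.2.map _
  have hRP : R ≤ P := fun r hr =>
    ⟨⟨r, hr.2⟩, hP0 (mem_subgroupOf.2 hr), rfl⟩
  have hPC : P ≤ C := map_subtype_le _
  have hlt : R < P := by
    refine lt_of_le_of_ne hRP fun h => ?_
    let T' : Subgroup G := (T : Subgroup G).map (MulAut.conj g⁻¹).toMonoidHom
    have hT'C : T' ≤ C := by
      rintro _ ⟨t, ht, rfl⟩
      refine mem_centralizer_singleton_iff.2 ?_
      have hc : Commute ((MulAut.conj g⁻¹).toMonoidHom t) ((MulAut.conj g⁻¹).toMonoidHom z) :=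
        Commute.map (show Commute t z from hzc t ht) _
      have hzs : (MulAut.conj g⁻¹).toMonoidHom z = s := by
        show g⁻¹ * z * g⁻¹⁻¹ = s
        rw [← hgs]; group
      rw [hzs] at hc
      exact hc.eq
    obtain ⟨P1, hP1⟩ := ((T.2.map (MulAut.conj g⁻¹).toMonoidHom).of_equiv
      (subgroupOfEquivOfLe hT'C).symm).exists_le_sylow
    have e1 : Nat.card ↥T' ≤ Nat.card ↥P := by
      rw [← Nat.card_congr (subgroupOfEquivOfLe hT'C).toEquiv]
      refine (Subgroup.card_le_of_le hP1).trans (le_of_eq ?_)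
      rw [Sylow.card_eq_multiplicity P1, ← Sylow.card_eq_multiplicity P0]
      exact Nat.card_congr ((P0 : Subgroup ↥C).equivMapOfInjective _ C.subtype_injective).toEquiv
    have e2 : Nat.card ↥T' = Nat.card (T : Subgroup G) :=
      (Nat.card_congr ((T : Subgroup G).equivMapOfInjective _ (MulAut.conj g⁻¹).injective).toEquiv).symm
    rw [e2, ← h] at e1
    have hRT : R = (T : Subgroup G) := Subgroup.eq_of_le_of_card_ge inf_le_left e1
    have hxs : x * s = s * x :=
      mem_centralizer_singleton_iff.1 (show x ∈ R by rw [hRT]; exact (hBS hxB).2).2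
    exact hsB (hCB s hsS hxs.symm)
  haveI : Group.IsNilpotent ↥P := hP2.isNilpotent
  have hlt' : R.subgroupOf P < ⊤ := lt_top_iff_ne_top.2 fun h => hlt.ne
    (le_antisymm hRP (subgroupOf_eq_top.1 h))
  obtain ⟨y, hyN, hyR⟩ := SetLike.exists_of_lt (Group.normalizerCondition_of_isNilpotent _ hlt')
  have hwy : (y : G) * w * (y : G)⁻¹ ∈ R := by
    have := (mem_normalizer_iff.1 hyN ⟨w, hRP hwR⟩).1 (mem_subgroupOf.2 hwR)
    exact mem_subgroupOf.1 this
  have hyz : (y : G) * z * (y : G)⁻¹ = z := by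
    have he : (y : G) * w * (y : G)⁻¹ * ((y : G) * w * (y : G)⁻¹) = y * z * (y : G)⁻¹ := by
      rw [← hww]; group
    rw [← he]
    refine hsq _ hwy ?_ ?_ ?_ <;> rw [he]
    · exact Subgroup.Normal.conj_mem inferInstance z hzA _
    · calc (y : G) * z * (y : G)⁻¹ * ((y : G) * z * (y : G)⁻¹) = y * (z * z) * (y : G)⁻¹ := by group
        _ = 1 := by rw [hz2]; group
    · intro h; exact hz1 (by simpa using h)
  refine hyR (mem_subgroupOf.2 (hRmax (P ⊓ centralizer ({z} : Set G)) (hP2.to_le inf_le_left)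
    (le_inf hRP (inf_le_left.trans hTz)) (inf_le_left.trans hPC) inf_le_right ⟨y.2, ?_⟩))
  refine mem_centralizer_singleton_iff.2 ?_
  nth_rw 2 [← hyz]; group

end Cfsg.Agent.Lib.FourFixRankOne
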