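import Cfsg.Agent.Lib.UnipConst
import Cfsg.Agent.Lib.UnitaryConj

/-! Regular unipotent elements of unitary groups. -/

set_option autoImplicit false

namespace Cfsg.Agent.Lib.UnitaryUnipotent

open UnitaryConj

variable {K : Type*} [Field K] [Fintype K] {q n : ℕ}

theorem tstar_pow (hK : Fintype.card K = q ^ 2) (M : Matrix (Fin n) (Fin n) K) (k : ℕ) :
    tstar hK (M ^ k) = tstar hK M ^ k := by
  induction k with
  | zero => rw [pow_zero, pow_zero, tstar_one]
  | succ k ih => rw [pow_succ, tstar_mul, ih, pow_succ']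

theorem tstar_zero (hK : Fintype.card K = q ^ 2) : tstar hK (0 : Matrix (Fin n) (Fin n) K) = 0 := by
  ext i j; exact map_zero (qHom hK)

theorem tstar_sub (hK : Fintype.card K = q ^ 2) (M N : Matrix (Fin n) (Fin n) K) :
    tstar hK (M - N) = tstar hK M - tstar hK N := by
  ext i j; exact map_sub (qHom hK) _ _

theorem qHom_eq_pow (hK : Fintype.card K = q ^ 2) (a : K) : qHom hK a = a ^ q := rfl

theorem isNilpotent_tstar (hK : Fintype.card K = q ^ 2) {M : Matrix (Fin n) (Fin n) K}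
    (h : IsNilpotent M) : IsNilpotent (tstar hK M) := by
  obtain ⟨k, hk⟩ := h
  exact ⟨k, by rw [← tstar_pow, hk, tstar_zero]⟩

theorem isUnit_tstar (hK : Fintype.card K = q ^ 2) {M : Matrix (Fin n) (Fin n) K}
    (h : IsUnit M) : IsUnit (tstar hK M) := by
  obtain ⟨u, rfl⟩ := h
  exact ⟨⟨tstar hK (u : Matrix (Fin n) (Fin n) K), tstar hK ((u⁻¹ : (Matrix (Fin n) (Fin n) K)ˣ) : Matrix (Fin n) (Fin n) K),
    by rw [← tstar_mul, Units.inv_mul, tstar_one], by rw [← tstar_mul, Units.mul_inv, tstar_one]⟩, rfl⟩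

/-- Unitary elements conjugate in `GL` are conjugate in `GU`. -/
theorem conj_in_GU (hK : Fintype.card K = q ^ 2) (u v g : GL (Fin n) K) (hu : u ∈ Cfsg.GU n K q)
    (hv : v ∈ Cfsg.GU n K q) (hg : g * u = v * g) :
    ∃ c : GL (Fin n) K, c ∈ Cfsg.GU n K q ∧ c * u = v * c := by
  rw [mem_GU_iff hK] at hu hv
  have hprod : IsUnit (tstar hK (g : Matrix (Fin n) (Fin n) K) * (g : Matrix (Fin n) (Fin n) K)) := (isUnit_tstar hK g.isUnit).mul g.isUnit
  have hherm : tstar hK (tstar hK (g : Matrix (Fin n) (Fin n) K) * (g : Matrix (Fin n) (Fin n) K)) = tstar hK (g : Matrix (Fin n) (Fin n) K) * (g : Matrix (Fin n) (Fin n) K) := by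
    rw [tstar_mul, tstar_tstar]
  obtain ⟨s, hs, hcomm⟩ := exists_sqrt hK hprod.unit (by rw [IsUnit.unit_spec]; exact hherm)
  rw [IsUnit.unit_spec] at hs
  have hg' : (g : Matrix (Fin n) (Fin n) K) * u = v * g := congrArg Units.val hg
  have hu' : (u : Matrix (Fin n) (Fin n) K) * tstar hK (u : Matrix (Fin n) (Fin n) K) = 1 := mul_eq_one_comm.1 hu
  have hcu : Commute (u : Matrix (Fin n) (Fin n) K) (hprod.unit : Matrix (Fin n) (Fin n) K) := by
    rw [IsUnit.unit_spec]
    show (u : Matrix (Fin n) (Fin n) K) * (tstar hK (g : Matrix (Fin n) (Fin n) K) * (g : Matrix (Fin n) (Fin n) K)) = tstar hK (g : Matrix (Fin n) (Fin n) K) * (g : Matrix (Fin n) (Fin n) K) * (u : Matrix (Fin n) (Fin n) K)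
    symm
    calc tstar hK (g : Matrix (Fin n) (Fin n) K) * (g : Matrix (Fin n) (Fin n) K) * (u : Matrix (Fin n) (Fin n) K)
        = ((u : Matrix (Fin n) (Fin n) K) * tstar hK (u : Matrix (Fin n) (Fin n) K)) * (tstar hK (g : Matrix (Fin n) (Fin n) K) * ((g : Matrix (Fin n) (Fin n) K) * (u : Matrix (Fin n) (Fin n) K))) := by
          rw [hu', one_mul, mul_assoc]
      _ = (u : Matrix (Fin n) (Fin n) K) * (tstar hK ((g : Matrix (Fin n) (Fin n) K) * (u : Matrix (Fin n) (Fin n) K)) * ((g : Matrix (Fin n) (Fin n) K) * (u : Matrix (Fin n) (Fin n) K))) := by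
          rw [tstar_mul hK (g : Matrix (Fin n) (Fin n) K) u]; simp only [mul_assoc]
      _ = u * (tstar hK (g : Matrix (Fin n) (Fin n) K) * (tstar hK (v : Matrix (Fin n) (Fin n) K) * (v : Matrix (Fin n) (Fin n) K)) * (g : Matrix (Fin n) (Fin n) K)) := by
          rw [hg', tstar_mul]; simp only [mul_assoc]
      _ = _ := by rw [hv, mul_one]
  refine ⟨g * s⁻¹, ?_, ?_⟩
  · rw [mem_GU_iff hK]
    show tstar hK ((g : Matrix (Fin n) (Fin n) K) * ((s⁻¹ : GL (Fin n) K) : Matrix (Fin n) (Fin n) K)) *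
      ((g : Matrix (Fin n) (Fin n) K) * ((s⁻¹ : GL (Fin n) K) : Matrix (Fin n) (Fin n) K)) = 1
    calc _ = tstar hK ((s⁻¹ : GL (Fin n) K) : Matrix (Fin n) (Fin n) K) * (tstar hK (g : Matrix (Fin n) (Fin n) K) * (g : Matrix (Fin n) (Fin n) K)) *
          ((s⁻¹ : GL (Fin n) K) : Matrix (Fin n) (Fin n) K) := by rw [tstar_mul]; simp only [mul_assoc]
      _ = tstar hK ((s : Matrix (Fin n) (Fin n) K) * ((s⁻¹ : GL (Fin n) K) : Matrix (Fin n) (Fin n) K)) *
          ((s : Matrix (Fin n) (Fin n) K) * ((s⁻¹ : GL (Fin n) K) : Matrix (Fin n) (Fin n) K)) := by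
            rw [← hs, tstar_mul]; simp only [mul_assoc]
      _ = 1 := by rw [Units.mul_inv, tstar_one, mul_one]
  · have h1 : Commute u s := Units.ext (hcomm _ hcu).eq
    rw [mul_assoc, h1.symm.inv_left.eq, ← mul_assoc, hg, mul_assoc]

theorem rank_map_le (hK : Fintype.card K = q ^ 2)
    (M : Matrix (Fin n) (Fin n) K) : (M.map (qHom hK)).rank ≤ M.rank := by
  classical
  obtain ⟨r, hr⟩ : ∃ r, M.rank = r := ⟨_, rfl⟩
  let W := LinearMap.range M.mulVecLin
  have hW : Module.finrank K W = r := hr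
  let b := Module.finBasis K W
  let B : Matrix (Fin n) (Fin (Module.finrank K W)) K := Matrix.of fun i j => (b j : Fin n → K) i
  let C : Matrix (Fin (Module.finrank K W)) (Fin n) K :=
    Matrix.of fun j l => b.repr ⟨M.mulVec (Pi.single l 1), ⟨_, rfl⟩⟩ j
  have hM : M = B * C := by
    ext i l
    have e := congrFun (congrArg Subtype.val (b.sum_repr ⟨M.mulVec (Pi.single l 1), ⟨_, rfl⟩⟩)) i
    simp only [Submodule.coe_sum, Submodule.coe_smul, Finset.sum_apply, Pi.smul_apply, smul_eq_mul,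
      Matrix.mulVec_single_one, Matrix.col_apply] at e
    rw [Matrix.mul_apply]
    refine e.symm.trans (Finset.sum_congr rfl fun j _ => ?_)
    simp [B, C, mul_comm]
  calc (M.map (qHom hK)).rank = (B.map (qHom hK) * C.map (qHom hK)).rank := by rw [← Matrix.map_mul, ← hM]
    _ ≤ (B.map (qHom hK)).rank := Matrix.rank_mul_le_left _ _
    _ ≤ Fintype.card (Fin (Module.finrank K W)) := Matrix.rank_le_card_width _
    _ = M.rank := by rw [Fintype.card_fin, hW, hr]


/-- A regular unipotent element exists in every `GU_n`. -/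
theorem exists_regular (hK : Fintype.card K = q ^ 2) (hn : 1 ≤ n) :
    ∃ u : GL (Fin n) K, u ∈ Cfsg.GU n K q ∧ ((u : Matrix (Fin n) (Fin n) K) - 1) ^ n = 0 ∧
      ((u : Matrix (Fin n) (Fin n) K) - 1).rank = n - 1 := by
  haveI : Nonempty (Fin n) := ⟨⟨0, hn⟩⟩
  set S := (GLOrders.shiftMat n n : Matrix (Fin n) (Fin n) K)
  set v : Matrix (Fin n) (Fin n) K := 1 + S with hv
  have hv1 : (v - 1) ^ n = 0 := by rw [hv, add_sub_cancel_left]; exact GLOrders.shiftMat_pow_eq_zero n n hn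
  have hv2 : (v - 1).rank = n - 1 := by rw [hv, add_sub_cancel_left]; exact UnipDet.shift_rank hn
  have hvu : IsUnit v := (Matrix.isUnit_iff_isUnit_det v).2 (by rw [hv, GLOrders.det_one_add_shiftMat]; exact isUnit_one)
  let V : GL (Fin n) K := hvu.unit
  clear_value v
  set w : Matrix (Fin n) (Fin n) K := tstar hK ((V⁻¹ : GL (Fin n) K) : Matrix (Fin n) (Fin n) K) with hw
  have hwv : tstar hK v * w = 1 := by
    rw [hw, ← tstar_mul, show v = (V : Matrix (Fin n) (Fin n) K) from hvu.unit_spec.symm, Units.inv_mul, tstar_one]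
  have hw' : w * tstar hK v = 1 := mul_eq_one_comm.1 hwv
  have htv1 : (tstar hK v - 1) ^ n = 0 := by
    rw [← tstar_one hK, ← tstar_sub, ← tstar_pow, hv1, tstar_zero]
  have hwe : w - 1 = -(w * (tstar hK v - 1)) := by rw [Matrix.mul_sub, mul_one, hw', neg_sub]
  have hw1 : (w - 1) ^ n = 0 := by
    have hc : Commute w (tstar hK v - 1) := (show Commute w (tstar hK v) from hw'.trans hwv.symm).sub_right (Commute.one_right w)
    rw [hwe, ← mul_neg, hc.neg_right.mul_pow, neg_pow, htv1, mul_zero, mul_zero]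
  have hrk : ∀ M : Matrix (Fin n) (Fin n) K, (tstar hK M).rank = M.rank := by
    intro M
    rw [tstar, Matrix.rank_transpose]
    refine le_antisymm ?_ ?_
    · exact rank_map_le hK M
    · have := rank_map_le hK (M.map (qHom hK))
      rwa [Matrix.map_map, show (qHom hK : K → K) ∘ (qHom hK) = id from funext (qHom_qHom hK), Matrix.map_id] at this
  have hw2 : (w - 1).rank = n - 1 := by
    have hwu : IsUnit w.det := Matrix.isUnit_det_of_left_inverse hwv
    rw [hwe, show -(w * (tstar hK v - 1)) = (-w) * (tstar hK v - 1) by rw [neg_mul],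
      Matrix.rank_mul_eq_right_of_isUnit_det _ _ (by rw [Matrix.det_neg]; exact (isUnit_neg_one.pow _).mul hwu),
      ← tstar_one hK, ← tstar_sub, hrk, hv2]
  obtain ⟨g, hg⟩ := UnipDet.exists_conj v w n hv1 (by simpa using hv2) hw1 (by simpa using hw2)
  have hfix : tstar hK v * g * v = g := by rw [mul_assoc, hg, ← mul_assoc, hwv, one_mul]
  have hfix' : tstar hK v * tstar hK (g : Matrix (Fin n) (Fin n) K) * v = tstar hK (g : Matrix (Fin n) (Fin n) K) := by
    conv_rhs => rw [← hfix, tstar_mul, tstar_mul, tstar_tstar]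
    rw [mul_assoc]
  set r : Matrix (Fin n) (Fin n) K := ((g⁻¹ : GL (Fin n) K) : Matrix (Fin n) (Fin n) K) * tstar hK (g : Matrix (Fin n) (Fin n) K) with hr
  have hgr : (g : Matrix (Fin n) (Fin n) K) * r = tstar hK (g : Matrix (Fin n) (Fin n) K) := by
    rw [hr, ← mul_assoc, Units.mul_inv, one_mul]
  have hrv : Commute r v := by
    show r * v = v * r
    apply g.isUnit.mul_left_cancel
    calc (g : Matrix (Fin n) (Fin n) K) * (r * v) = tstar hK (g : Matrix (Fin n) (Fin n) K) * v := by rw [← mul_assoc, hgr]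
      _ = w * tstar hK (g : Matrix (Fin n) (Fin n) K) := by
          conv_rhs => rw [← hfix', ← mul_assoc, ← mul_assoc, hw', one_mul]
      _ = (g : Matrix (Fin n) (Fin n) K) * (v * r) := by rw [← mul_assoc, hg, mul_assoc, hgr]
  obtain ⟨r0, hr0⟩ := UnipConst.exists_const hv1 (by simpa using hv2) hrv
  obtain ⟨a, ha⟩ : ∃ a : K, a + qHom hK a * r0 ≠ 0 := by
    by_contra h
    push Not at h
    obtain ⟨θ, hθ⟩ := exists_moved hK
    have h1 := h 1
    rw [map_one, one_mul] at h1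
    have h2 := h θ
    rw [show r0 = -1 by linear_combination h1] at h2
    exact hθ (by linear_combination -h2)
  have hunit : IsUnit (a • (1 : Matrix (Fin n) (Fin n) K) + qHom hK a • r) := by
    have e : a • (1 : Matrix (Fin n) (Fin n) K) + qHom hK a • r
        = (a + qHom hK a * r0) • 1 + qHom hK a • (r - r0 • 1) := by
      rw [smul_sub, smul_smul, add_smul]; abel
    rw [e, Matrix.isUnit_iff_isUnit_det, UnipDet.det_smul_one_add _ _ (hr0.smul _)]
    exact (pow_ne_zero _ ha).isUnit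
  set H : Matrix (Fin n) (Fin n) K := a • (g : Matrix (Fin n) (Fin n) K) + qHom hK a • tstar hK (g : Matrix (Fin n) (Fin n) K) with hH
  have hHu : IsUnit H := by
    have : H = (g : Matrix (Fin n) (Fin n) K) * (a • (1 : Matrix (Fin n) (Fin n) K) + qHom hK a • r) := by
      rw [hH, Matrix.mul_add, Matrix.mul_smul, Matrix.mul_smul, mul_one, hgr]
    rw [this]
    exact g.isUnit.mul hunit
  have hHh : tstar hK H = H := by
    rw [hH, tstar_add, tstar_smul, tstar_smul, qHom_qHom, tstar_tstar, add_comm]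
  have hHv : tstar hK v * H * v = H := by
    rw [hH, Matrix.mul_add, Matrix.add_mul, Matrix.mul_smul, Matrix.mul_smul, Matrix.smul_mul, Matrix.smul_mul, hfix, hfix']
  obtain ⟨c, hc, -⟩ := exists_sqrt hK hHu.unit (by rw [IsUnit.unit_spec]; exact hHh)
  rw [IsUnit.unit_spec] at hc
  refine ⟨c * V * c⁻¹, ?_, ?_, ?_⟩
  · rw [mem_GU_iff hK]
    show tstar hK ((c : Matrix (Fin n) (Fin n) K) * (V : Matrix (Fin n) (Fin n) K) * ((c⁻¹ : GL (Fin n) K) : Matrix (Fin n) (Fin n) K)) *
      ((c : Matrix (Fin n) (Fin n) K) * (V : Matrix (Fin n) (Fin n) K) * ((c⁻¹ : GL (Fin n) K) : Matrix (Fin n) (Fin n) K)) = 1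
    rw [show (V : Matrix (Fin n) (Fin n) K) = v from hvu.unit_spec, tstar_mul, tstar_mul]
    calc _ = tstar hK ((c⁻¹ : GL (Fin n) K) : Matrix (Fin n) (Fin n) K) * (tstar hK v * (tstar hK (c : Matrix (Fin n) (Fin n) K) * (c : Matrix (Fin n) (Fin n) K)) * v) *
          ((c⁻¹ : GL (Fin n) K) : Matrix (Fin n) (Fin n) K) := by simp only [mul_assoc]
      _ = tstar hK ((c : Matrix (Fin n) (Fin n) K) * ((c⁻¹ : GL (Fin n) K) : Matrix (Fin n) (Fin n) K)) *
          ((c : Matrix (Fin n) (Fin n) K) * ((c⁻¹ : GL (Fin n) K) : Matrix (Fin n) (Fin n) K)) := by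
            rw [hc, hHv, ← hc, tstar_mul]; simp only [mul_assoc]
      _ = 1 := by rw [Units.mul_inv, tstar_one, mul_one]
  · show ((c : Matrix (Fin n) (Fin n) K) * (V : Matrix (Fin n) (Fin n) K) * ((c⁻¹ : GL (Fin n) K) : Matrix (Fin n) (Fin n) K) - 1) ^ n = 0
    rw [show (c : Matrix (Fin n) (Fin n) K) * (V : Matrix (Fin n) (Fin n) K) * ((c⁻¹ : GL (Fin n) K) : Matrix (Fin n) (Fin n) K) - 1
        = c * ((V : Matrix (Fin n) (Fin n) K) - 1) * ((c⁻¹ : GL (Fin n) K) : Matrix (Fin n) (Fin n) K) by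
          rw [Matrix.mul_sub, Matrix.sub_mul, mul_one, Units.mul_inv],
      Units.conj_pow, show (V : Matrix (Fin n) (Fin n) K) = v from hvu.unit_spec, hv1, mul_zero, zero_mul]
  · show ((c : Matrix (Fin n) (Fin n) K) * (V : Matrix (Fin n) (Fin n) K) * ((c⁻¹ : GL (Fin n) K) : Matrix (Fin n) (Fin n) K) - 1).rank = n - 1
    rw [show (c : Matrix (Fin n) (Fin n) K) * (V : Matrix (Fin n) (Fin n) K) * ((c⁻¹ : GL (Fin n) K) : Matrix (Fin n) (Fin n) K) - 1
        = c * ((V : Matrix (Fin n) (Fin n) K) - 1) * ((c⁻¹ : GL (Fin n) K) : Matrix (Fin n) (Fin n) K) by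
          rw [Matrix.mul_sub, Matrix.sub_mul, mul_one, Units.mul_inv],
      Matrix.rank_mul_eq_left_of_isUnit_det _ _ ((Matrix.isUnit_iff_isUnit_det _).1 c⁻¹.isUnit),
      Matrix.rank_mul_eq_right_of_isUnit_det _ _ ((Matrix.isUnit_iff_isUnit_det _).1 c.isUnit),
      show (V : Matrix (Fin n) (Fin n) K) = v from hvu.unit_spec, hv2]

end Cfsg.Agent.Lib.UnitaryUnipotent
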