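import Mathlib
import Cfsg.Agent.Lib.CountModSq
import Cfsg.Agent.Lib.PGroupFrattini
import Cfsg.Agent.Lib.Thompson.Cyclic

/-! Kulakoff's theorem: subgroups of given order in a non-cyclic `p`-group, `p` odd. -/

set_option autoImplicit false

namespace Cfsg.Agent.Lib.CountModSq

open Subgroup Finset

variable {G : Type*} [Group G] [Finite G] {p : ℕ} [hp : Fact p.Prime]

/-- the Frattini subgroup of `H`, inside the ambient group -/
noncomputable def frat (H : Subgroup G) : Subgroup G := (frattini ↥H).map H.subtype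

omit [Finite G] hp in
theorem frat_le (H : Subgroup G) : frat H ≤ H := map_subtype_le _

omit [Finite G] hp in
theorem frat_subgroupOf (H : Subgroup G) : (frat H).subgroupOf H = frattini ↥H :=
  comap_map_eq_self_of_injective H.subtype_injective _

theorem elemQuot_frat {H : Subgroup G} (hH : IsPGroup p H) : ElemQuot p H (frat H) := by
  refine ⟨frat_le H, fun a ha b hb => ?_, fun a ha => ⟨_, PGroupFrattini.pow_mem_frattini hH ⟨a, ha⟩, rfl⟩⟩
  exact ⟨_, PGroupFrattini.commutator_le_frattini hH
    (commutator_mem_commutator (mem_top (⟨a, ha⟩ : ↥H)) (mem_top (⟨b, hb⟩ : ↥H))), rfl⟩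

omit hp in
theorem frat_gen {H K : Subgroup G} (hK : K ≤ H) (h : frat H ⊔ K = H) : K = H := by
  have h' : K.subgroupOf H ⊔ frattini ↥H = ⊤ := by
    rw [← frat_subgroupOf, ← subgroupOf_sup hK (frat_le H), sup_comm K, h, subgroupOf_self]
  exact le_antisymm hK (subgroupOf_eq_top.mp (frattini_nongenerating h'))

theorem isCyclic_of_frat_index {H : Subgroup G} (hH : IsPGroup p H)
    (h : (frat H).relIndex H = p ∨ frat H = H) : IsCyclic H := by
  obtain ⟨x, hx, hgen⟩ : ∃ x ∈ H, frat H ⊔ zpowers x = H := by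
    rcases h with h | h
    · obtain ⟨x, hx, hxF⟩ : ∃ x ∈ H, x ∉ frat H := by
        by_contra hc
        push Not at hc
        rw [le_antisymm (frat_le H) hc, relIndex_self] at h
        exact hp.out.one_lt.ne h
      refine ⟨x, hx, le_antisymm (sup_le (frat_le H) (zpowers_le.mpr hx)) (relIndex_eq_one.mp ?_)⟩
      have hd := relIndex_mul_relIndex (frat H) (frat H ⊔ zpowers x) H le_sup_left
        (sup_le (frat_le H) (zpowers_le.mpr hx))
      rw [h] at hd
      rcases (Nat.dvd_prime hp.out).mp (Dvd.intro _ hd) with h1 | h1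
      · exact absurd (relIndex_eq_one.mp h1 (mem_sup_right (mem_zpowers x))) hxF
      · rw [h1] at hd
        exact Nat.eq_of_mul_eq_mul_left hp.out.pos (hd.trans (mul_one p).symm)
    · exact ⟨1, H.one_mem, by rw [zpowers_one_eq_bot, sup_bot_eq, h]⟩
  rw [← frat_gen (zpowers_le.mpr hx) hgen]
  infer_instance

theorem relIndex_p_iff_hyper {H L : Subgroup G} (hH : IsPGroup p H) :
    L ∈ hyper p H (frat H) ↔ L ≤ H ∧ L.relIndex H = p := by
  refine ⟨fun h => (mem_hyper.mp h).2, fun ⟨hL, hi⟩ => mem_hyper.mpr ⟨?_, hL, hi⟩⟩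
  have hco : IsCoatom (L.subgroupOf H) := by
    refine ⟨fun h => ?_, fun V hV => ?_⟩
    · rw [subgroupOf_eq_top] at h
      rw [le_antisymm hL h, relIndex_self] at hi
      exact hp.out.one_lt.ne hi
    · have hd := relIndex_mul_index hV.le
      change _ = L.relIndex H at hd
      rw [hi] at hd
      rcases (Nat.dvd_prime hp.out).mp (Dvd.intro _ hd) with h1 | h1
      · exact absurd (relIndex_eq_one.mp h1) (not_le_of_gt hV)
      · rw [h1] at hd
        exact index_eq_one.mp (Nat.eq_of_mul_eq_mul_left hp.out.pos (hd.trans (mul_one p).symm))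
  calc frat H ≤ (L.subgroupOf H).map H.subtype := map_mono (frattini_le_coatom hco)
    _ = L := map_subgroupOf_eq_of_le hL

theorem subs_eq_hyper {H : Subgroup G} {m : ℕ} (hm : Nat.card H = p ^ (m + 1)) :
    subs p H m = hyper p H (frat H) := by
  ext L
  rw [relIndex_p_iff_hyper (IsPGroup.of_card hm), mem_subs]
  refine and_congr_right fun hL => ?_
  have h : Nat.card L * L.relIndex H = p ^ (m + 1) := by
    rw [← Nat.card_congr (subgroupOfEquivOfLe hL).toEquiv, ← hm]
    exact (L.subgroupOf H).card_mul_index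
  constructor
  · intro h'
    rw [h', pow_succ] at h
    exact Nat.eq_of_mul_eq_mul_left (pow_pos hp.out.pos m) h
  · intro h'
    rw [h', pow_succ] at h
    exact Nat.eq_of_mul_eq_mul_right hp.out.pos h

theorem card_subs_of_isCyclic {H : Subgroup G} {m k : ℕ} (hm : Nat.card H = p ^ m) (hk : k ≤ m)
    (hc : IsCyclic H) : (subs p H k).card = 1 := by
  classical
  have hle : 0 < (subs p H k).card := by
    have := card_subs_modEq_one (H := H) (k := k) (hm ▸ pow_dvd_pow p hk)
    rcases Nat.eq_zero_or_pos (subs p H k).card with h | h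
    · rw [h] at this
      have h1 : 0 % p = 1 % p := this
      rw [Nat.zero_mod, Nat.one_mod_eq_one.mpr hp.out.ne_one] at h1
      omega
    · exact h
  refine le_antisymm (Finset.card_le_one.mpr fun A hA B hB => ?_) hle
  obtain ⟨hAH, hAc⟩ := mem_subs.mp hA
  obtain ⟨hBH, hBc⟩ := mem_subs.mp hB
  have := Fintype.ofFinite ↥H
  have key : ∀ C : Subgroup G, C ≤ H → Nat.card C = p ^ k →
      (univ.filter fun x : ↥H => (x : G) ∈ C) = univ.filter fun x : ↥H => x ^ (p ^ k) = 1 := by
    intro C hC hCc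
    refine Finset.eq_of_subset_of_card_le (fun x hx => ?_) ?_
    · simp only [Finset.mem_filter, Finset.mem_univ, true_and] at hx ⊢
      refine Subtype.ext ?_
      have h := pow_card_eq_one' (G := ↥C) (x := ⟨(x : G), hx⟩)
      rw [hCc] at h
      simpa using congrArg (Subtype.val) h
    · refine (IsCyclic.card_pow_eq_one_le (pow_pos hp.out.pos k)).trans (le_of_eq ?_)
      rw [← hCc, ← Nat.card_congr (subgroupOfEquivOfLe hC).toEquiv, Nat.card_eq_fintype_card,
        Fintype.card_subtype]
      congr 1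
  refine SetLike.ext fun x => ?_
  have h := (key A hAH hAc).trans (key B hBH hBc).symm
  constructor
  · intro hx
    have := Finset.ext_iff.mp h ⟨x, hAH hx⟩
    simpa [hx] using this
  · intro hx
    have := Finset.ext_iff.mp h ⟨x, hBH hx⟩
    simpa [hx] using this

theorem hyper_frat_modEq {H : Subgroup G} (hH : IsPGroup p H) (hnc : ¬ IsCyclic H) :
    (hyper p H (frat H)).card ≡ 1 + p [MOD p ^ 2] := by
  rcases hyper_cases hH (elemQuot_frat hH) (fun h => hnc (isCyclic_of_frat_index hH (Or.inr h))) with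
    ⟨h, -⟩ | ⟨-, h⟩
  · exact absurd (isCyclic_of_frat_index hH (Or.inl h)) hnc
  · exact h

/-- for odd `p` the non-cyclic maximal subgroups are `1` in number modulo `p` -/
theorem card_noncyclic_hyper (hp2 : p ≠ 2) {H : Subgroup G} {m : ℕ} (hm : Nat.card H = p ^ m)
    (hm3 : 3 ≤ m) (hnc : ¬ IsCyclic H) :
    open Classical in
    ((hyper p H (frat H)).filter fun L : Subgroup G => ¬ IsCyclic L).card ≡ 1 [MOD p] := by
  classical
  have hH : IsPGroup p H := IsPGroup.of_card hm
  by_cases hall : ∀ L ∈ hyper p H (frat H), ¬ IsCyclic L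
  · rw [Finset.filter_true_of_mem hall]
    refine ((hyper_frat_modEq hH hnc).of_dvd (dvd_pow_self p two_ne_zero)).trans ?_
    show (1 + p) % p = 1 % p
    rw [Nat.add_mod_right]
  push Not at hall
  obtain ⟨C, hC, hCc⟩ := hall
  obtain ⟨hFC, hCH, hCi⟩ := mem_hyper.mp hC
  -- `frat H` has index `p` in `C`
  have hFi2 : (frat H).relIndex H = p ^ 2 := by
    have hd := relIndex_mul_relIndex (frat H) C H hFC hCH
    rw [hCi] at hd
    obtain ⟨c, hc⟩ := (C.isCyclic_iff_exists_zpowers_eq_top).mp hCc
    have hcC : c ∈ C := hc ▸ mem_zpowers c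
    have hdvd : (frat H).relIndex C ∣ p := by
      haveI := (elemQuot_frat hH).mono hFC hCH |>.1.normal
      rw [relIndex, Subgroup.index_eq_card]
      have hgen : zpowers (QuotientGroup.mk' ((frat H).subgroupOf C) ⟨c, hcC⟩) = ⊤ := by
        refine eq_top_iff.mpr fun x _ => ?_
        obtain ⟨⟨y, hy⟩, rfl⟩ := QuotientGroup.mk'_surjective _ x
        rw [← hc] at hy
        obtain ⟨i, rfl⟩ := hy
        exact ⟨i, ((map_zpow _ _ i).symm.trans rfl)⟩
      rw [← card_top (G := ↥C ⧸ (frat H).subgroupOf C), ← hgen, Nat.card_zpowers]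
      refine orderOf_dvd_of_pow_eq_one ?_
      rw [← map_pow]
      exact (QuotientGroup.eq_one_iff _).mpr ((elemQuot_frat hH).2.2 c (hCH hcC))
    rcases (Nat.dvd_prime hp.out).mp hdvd with h | h
    · rw [h, one_mul] at hd
      exact absurd (isCyclic_of_frat_index hH (Or.inl hd.symm)) hnc
    · rw [← hd, h, sq]
  -- Ω₁
  have hCH' : IsCyclic ↥(C.subgroupOf H) :=
    (subgroupOfEquivOfLe hCH).symm.isCyclic.mp hCc
  obtain ⟨hEel, hEc⟩ := Lib.Thompson.omega_of_cyclic_index hp2 hH hnc (C := C.subgroupOf H) hCi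
  set E' : Subgroup G := (closure {x : ↥H | x ^ p = 1}).map H.subtype with hE
  have hE'c : Nat.card E' = p ^ 2 := by
    rw [hE, card_map_of_injective H.subtype_injective]; exact hEc
  have hE'H : E' ≤ H := map_subtype_le _
  have hE'el : ∀ e ∈ E', e ^ p = 1 := by
    rintro _ ⟨e, he, rfl⟩
    rw [← map_pow, hEel.2 e he, map_one]
  have hFcyc : IsCyclic ↥(frat H) := isCyclic_of_injective (inclusion hFC) (inclusion_injective hFC)
  have hE'nc : ∀ L : Subgroup G, E' ≤ L → ¬ IsCyclic L := by
    intro L hL hLc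
    have : IsCyclic E' := isCyclic_of_injective (inclusion hL) (inclusion_injective hL)
    obtain ⟨e, he⟩ := (E'.isCyclic_iff_exists_zpowers_eq_top).mp this
    have h1 := orderOf_dvd_of_pow_eq_one (hE'el e (he ▸ mem_zpowers e))
    rw [← he, Nat.card_zpowers] at hE'c
    rw [hE'c] at h1
    have := Nat.le_of_dvd hp.out.pos h1
    have := hp.out.two_le
    nlinarith
  have hne : frat H ≠ frat H ⊔ E' := fun h => hE'nc (frat H) (h ▸ le_sup_right) hFcyc
  have hne2 : frat H ⊔ E' ≠ H := by
    intro h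
    have := frat_gen hE'H h
    rw [this, hm] at hE'c
    have := Nat.pow_right_injective hp.out.two_le hE'c
    omega
  have hmid : (frat H ⊔ E').relIndex H = p ∧ (frat H).relIndex (frat H ⊔ E') = p := by
    have hd := relIndex_mul_relIndex (frat H) (frat H ⊔ E') H le_sup_left (sup_le (frat_le H) hE'H)
    rw [hFi2] at hd
    obtain ⟨i, hi2, hi⟩ := (Nat.dvd_prime_pow hp.out).mp (Dvd.intro _ hd)
    have hi0 : i ≠ 0 := by
      rintro rfl
      rw [pow_zero] at hi
      exact hne (le_antisymm le_sup_left (relIndex_eq_one.mp hi))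
    rcases Nat.lt_or_ge i 2 with h | h
    · obtain rfl : i = 1 := by omega
      rw [pow_one] at hi
      rw [hi, sq] at hd
      exact ⟨Nat.eq_of_mul_eq_mul_left hp.out.pos hd, hi⟩
    · obtain rfl : i = 2 := by omega
      rw [hi] at hd
      have := Nat.eq_of_mul_eq_mul_left (pow_pos hp.out.pos 2) (hd.trans (mul_one _).symm)
      exact absurd (le_antisymm (sup_le (frat_le H) hE'H) (relIndex_eq_one.mp this)) hne2
  rw [show (hyper p H (frat H)).filter (fun L : Subgroup G => ¬ IsCyclic L) = {frat H ⊔ E'} from ?_,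
    Finset.card_singleton]
  ext L
  rw [Finset.mem_filter, Finset.mem_singleton]
  constructor
  · rintro ⟨hL, hLnc⟩
    obtain ⟨hFL, hLH, hLi⟩ := mem_hyper.mp hL
    have hLp : IsPGroup p L := hH.to_le hLH
    have hFLi : (frat H).relIndex L = p := by
      have hd := relIndex_mul_relIndex (frat H) L H hFL hLH
      rw [hFi2, hLi, sq] at hd
      exact Nat.eq_of_mul_eq_mul_right hp.out.pos hd
    haveI : IsCyclic ↥((frat H).subgroupOf L) := (subgroupOfEquivOfLe hFL).symm.isCyclic.mp hFcyc
    obtain ⟨-, hELc⟩ := Lib.Thompson.omega_of_cyclic_index hp2 hLp hLnc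
      (C := (frat H).subgroupOf L) hFLi
    have hsub : (closure {x : ↥L | x ^ p = 1}).map L.subtype ≤ E' := by
      rw [MonoidHom.map_closure, closure_le]
      rintro _ ⟨x, hx, rfl⟩
      refine ⟨⟨(x : G), hLH x.2⟩, subset_closure ?_, rfl⟩
      exact Subtype.ext (congrArg Subtype.val hx :)
    have heq : (closure {x : ↥L | x ^ p = 1}).map L.subtype = E' :=
      eq_of_le_of_card_ge hsub (by
        rw [card_map_of_injective L.subtype_injective, hELc, hE'c])
    have hle : frat H ⊔ E' ≤ L := sup_le hFL (heq ▸ map_subtype_le _)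
    refine (le_antisymm hle (relIndex_eq_one.mp ?_)).symm
    have hd := relIndex_mul_relIndex (frat H) (frat H ⊔ E') L le_sup_left hle
    rw [hmid.2, hFLi] at hd
    exact Nat.eq_of_mul_eq_mul_left hp.out.pos (hd.trans (mul_one p).symm)
  · rintro rfl
    exact ⟨mem_hyper.mpr ⟨le_sup_left, sup_le (frat_le H) hE'H, hmid.1⟩, hE'nc _ le_sup_right⟩

/-- the enumeration step from the maximal subgroups -/
theorem step_modEq {H : Subgroup G} {m k : ℕ} (hm : Nat.card H = p ^ m) (hk : k + 2 ≤ m)
    (hnc : ¬ IsCyclic H) :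
    ∑ M ∈ hyper p H (frat H), (subs p M k).card ≡ (subs p H k).card + p [MOD p ^ 2] :=
  sum_hyper_modEq (IsPGroup.of_card hm) (elemQuot_frat (IsPGroup.of_card hm))
    (fun _ hK h => frat_gen hK h)
    (fun h => hnc (isCyclic_of_frat_index (IsPGroup.of_card hm) (Or.inl h)))
    (fun h => hnc (isCyclic_of_frat_index (IsPGroup.of_card hm) (Or.inr h)))
    (by rw [hm]; exact Nat.pow_le_pow_right hp.out.pos hk)

/-- combine: `good` maximal subgroups contribute `1 + p`, the others `1` -/
theorem combine {H : Subgroup G} {m k : ℕ} (hm : Nat.card H = p ^ m) (hk : k + 2 ≤ m)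
    (hnc : ¬ IsCyclic H) (Good : Subgroup G → Prop) [DecidablePred Good]
    (hgood : ∀ M ∈ hyper p H (frat H), Good M → (subs p M k).card ≡ 1 + p [MOD p ^ 2])
    (hbad : ∀ M ∈ hyper p H (frat H), ¬ Good M → (subs p M k).card ≡ 1 [MOD p ^ 2]) :
    (subs p H k).card ≡ 1 + p * ((hyper p H (frat H)).filter Good).card [MOD p ^ 2] := by
  classical
  have h1 := step_modEq hm hk hnc
  have h2 := hyper_frat_modEq (IsPGroup.of_card hm) hnc
  rw [← Finset.card_filter_add_card_filter_not (s := hyper p H (frat H)) Good] at h2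
  rw [← ZMod.natCast_eq_natCast_iff] at h1 h2 ⊢
  have hA : ∀ M ∈ (hyper p H (frat H)).filter Good,
      ((subs p M k).card : ZMod (p ^ 2)) = ((1 + p : ℕ) : ZMod (p ^ 2)) := fun M hM =>
    (ZMod.natCast_eq_natCast_iff _ _ _).mpr (hgood M (Finset.mem_filter.mp hM).1 (Finset.mem_filter.mp hM).2)
  have hB : ∀ M ∈ (hyper p H (frat H)).filter (fun M => ¬ Good M),
      ((subs p M k).card : ZMod (p ^ 2)) = ((1 : ℕ) : ZMod (p ^ 2)) := fun M hM =>
    (ZMod.natCast_eq_natCast_iff _ _ _).mpr (hbad M (Finset.mem_filter.mp hM).1 (Finset.mem_filter.mp hM).2)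
  rw [Nat.cast_sum, ← Finset.sum_filter_add_sum_filter_not (hyper p H (frat H)) Good,
    Finset.sum_congr rfl hA, Finset.sum_congr rfl hB] at h1
  simp only [Finset.sum_const, nsmul_eq_mul, Nat.cast_add, Nat.cast_one, mul_one] at h1 h2
  push_cast
  linear_combination h2 - h1

/-- Kulakoff's theorem. -/
theorem kulakoff (hp2 : p ≠ 2) (m : ℕ) (H : Subgroup G) (hm : Nat.card H = p ^ m)
    (hnc : ¬ IsCyclic H) (k : ℕ) (hk1 : 1 ≤ k) (hk2 : k < m) :
    (subs p H k).card ≡ 1 + p [MOD p ^ 2] := by
  classical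
  induction m generalizing H k with
  | zero => omega
  | succ m ih =>
    rcases Nat.lt_or_ge k m with hkm | hkm
    · refine (combine hm (by omega) hnc (fun M : Subgroup G => ¬ IsCyclic M) ?_ ?_).trans ?_
      · intro M hM hMc
        refine ih M ?_ hMc k hk1 hkm
        have := card_le_of_mem_hyper hM
        rw [hm, pow_succ] at this
        exact Nat.eq_of_mul_eq_mul_right hp.out.pos this
      · intro M hM hMc
        have h := card_le_of_mem_hyper hM
        rw [hm, pow_succ] at h
        rw [card_subs_of_isCyclic (Nat.eq_of_mul_eq_mul_right hp.out.pos h) hkm.le (not_not.mp hMc)]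
      · have h := (card_noncyclic_hyper hp2 hm (by omega) hnc).mul_left' p
        rw [mul_one, ← sq] at h
        exact Nat.ModEq.add_left 1 h
    · obtain rfl : k = m := by omega
      rw [subs_eq_hyper hm]
      exact hyper_frat_modEq (IsPGroup.of_card hm) hnc

end Cfsg.Agent.Lib.CountModSq
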