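import Cfsg.Prelude.Def_Transfer
import Mathlib

/-!
# Minimal covers by nilpotent subgroups and abelian Sylow subgroups
-/

namespace Cfsg.Agent.Lib.NilpotentCover

open Subgroup
open scoped Pointwise

variable {G : Type*} [Group G] [Finite G]

/-- A minimal cover of a group by proper subgroups, all of them nilpotent. -/
def IsNilCover (𝓐 : Finset (Subgroup G)) : Prop :=
  ((∀ A ∈ 𝓐, A ≠ ⊤) ∧ (∀ g : G, ∃ A ∈ 𝓐, g ∈ A)) ∧
    (∀ 𝓑 : Finset (Subgroup G), (∀ A ∈ 𝓑, A ≠ ⊤) ∧ (∀ g : G, ∃ A ∈ 𝓑, g ∈ A) → 𝓐.card ≤ 𝓑.card) ∧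
    (∀ A ∈ 𝓐, Group.IsNilpotent ↥A)

theorem eq_top_of_forall_isPGroup_le (H : Subgroup G)
    (h : ∀ r : ℕ, r.Prime → ∀ R : Subgroup G, IsPGroup r R → R ≤ H) : H = ⊤ := by
  rw [← index_eq_one]
  by_contra hi
  obtain ⟨r, hr, hd⟩ := Nat.exists_prime_and_dvd hi
  have : Fact r.Prime := ⟨hr⟩
  obtain ⟨R⟩ := Sylow.nonempty (p := r) (G := G)
  exact R.not_dvd_index (hd.trans (index_dvd_of_le (h r hr R R.isPGroup')))

theorem le_of_forall_isPGroup_le {A H : Subgroup G}
    (h : ∀ r : ℕ, r.Prime → ∀ R : Subgroup G, IsPGroup r R → R ≤ H → R ≤ A) : H ≤ A := by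
  rw [← subgroupOf_eq_top]
  refine eq_top_of_forall_isPGroup_le _ fun r hr R hR x hx => ?_
  exact h r hr (R.map H.subtype) (hR.map _) (map_subtype_le R) (mem_map_of_mem H.subtype hx)

variable {p : ℕ} [hp : Fact p.Prime] {𝓐 : Finset (Subgroup G)}

theorem merge (h𝓐 : IsNilCover 𝓐) {A B M : Subgroup G} (hA : A ∈ 𝓐) (hB : B ∈ 𝓐) (hM : M ≠ ⊤)
    (hAM : A ≤ M) (hBM : B ≤ M) : A = B := by
  classical
  by_contra hne
  obtain ⟨⟨hproper, hcov⟩, hmin, -⟩ := h𝓐
  have h := hmin (insert M ((𝓐.erase A).erase B)) ⟨?_, ?_⟩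
  · have h1 := Finset.card_insert_le M ((𝓐.erase A).erase B)
    have h2 := Finset.card_erase_add_one (Finset.mem_erase.mpr ⟨Ne.symm hne, hB⟩)
    have h3 := Finset.card_erase_add_one hA
    omega
  · intro X hX
    rcases Finset.mem_insert.mp hX with rfl | hX
    · exact hM
    · exact hproper X (Finset.mem_of_mem_erase (Finset.mem_of_mem_erase hX))
  · intro g
    obtain ⟨X, hX, hg⟩ := hcov g
    by_cases h1 : X = A
    · exact ⟨M, Finset.mem_insert_self _ _, hAM (h1 ▸ hg)⟩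
    by_cases h2 : X = B
    · exact ⟨M, Finset.mem_insert_self _ _, hBM (h2 ▸ hg)⟩
    exact ⟨X, Finset.mem_insert_of_mem (Finset.mem_erase.mpr ⟨h2, Finset.mem_erase.mpr ⟨h1, hX⟩⟩), hg⟩

theorem le_of_isPGroup_of_le_normalizer (P : Sylow p G) {R : Subgroup G} (hR : IsPGroup p R)
    (hle : R ≤ normalizer ((P : Subgroup G) : Set G)) : R ≤ P := by
  have h := P.is_maximal' (hR.to_sup_of_normal_right' P.isPGroup' hle) le_sup_right
  exact h ▸ le_sup_left

theorem mem_smul_iff (P : Sylow p G) (g x : G) : x ∈ ((g • P : Sylow p G) : Subgroup G) ↔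
    g⁻¹ * x * g ∈ (P : Subgroup G) := by
  show x ∈ MulAut.conj g • (P : Subgroup G) ↔ _
  rw [mem_pointwise_smul_iff_inv_smul_mem]
  simp [MulAut.smul_def, ← map_inv, mul_assoc]

theorem comm_of_sylow (P : Sylow p G) (hab : IsMulCommutative ↥(P : Subgroup G)) (R : Sylow p G)
    {a b : G} (ha : a ∈ (R : Subgroup G)) (hb : b ∈ (R : Subgroup G)) : a * b = b * a := by
  obtain ⟨g, rfl⟩ := MulAction.exists_smul_eq G P R
  rw [mem_smul_iff] at ha hb
  have h := congrArg Subtype.val (hab.is_comm.comm (⟨_, ha⟩ : ↥(P : Subgroup G)) ⟨_, hb⟩)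
  simp only [Subgroup.coe_mul] at h
  calc a * b = g * ((g⁻¹ * a * g) * (g⁻¹ * b * g)) * g⁻¹ := by group
    _ = g * ((g⁻¹ * b * g) * (g⁻¹ * a * g)) * g⁻¹ := by rw [h]
    _ = b * a := by group

/-- A `p`-element of a nilpotent subgroup is central in it, the Sylow `p`-subgroups being abelian. -/
theorem le_centralizer_of_isNilpotent (P : Sylow p G) (hab : IsMulCommutative ↥(P : Subgroup G))
    {A : Subgroup G} (hA : Group.IsNilpotent ↥A) {w : G} (hw : w ∈ A) (hwp : IsPGroup p (zpowers w)) :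
    A ≤ centralizer ({w} : Set G) := by
  let W : Subgroup ↥A := (zpowers w).subgroupOf A
  have hWp : IsPGroup p W := hwp.comap_subtype
  obtain ⟨Q, hQ⟩ := hWp.exists_le_sylow
  have hwQ : (⟨w, hw⟩ : ↥A) ∈ (Q : Subgroup ↥A) := hQ (mem_subgroupOf.mpr (mem_zpowers w))
  refine le_of_forall_isPGroup_le fun r hr R hR hRA v hv => ?_
  have : Fact r.Prime := ⟨hr⟩
  obtain ⟨S, hS⟩ := (hR.comap_subtype (K := A)).exists_le_sylow
  have hvS : (⟨v, hRA hv⟩ : ↥A) ∈ (S : Subgroup ↥A) := hS (mem_subgroupOf.mpr hv)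
  refine mem_centralizer_singleton_iff.mpr ?_
  by_cases hrp : r = p
  · subst hrp
    obtain ⟨T, hT⟩ := ((Q : Sylow r ↥A).isPGroup'.map A.subtype).exists_le_sylow
    have hSQ : S = Q := by
      have : (Q : Subgroup ↥A).Normal := inferInstance
      exact Sylow.ext (Q.is_maximal' (S.isPGroup'.to_sup_of_normal_right Q.isPGroup') le_sup_right ▸
        le_sup_left |>.antisymm (S.is_maximal' Q.isPGroup'
          (Q.is_maximal' (S.isPGroup'.to_sup_of_normal_right Q.isPGroup') le_sup_right ▸ le_sup_left)).le)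
    exact comm_of_sylow P hab T (hT (mem_map_of_mem A.subtype (hSQ ▸ hvS))) (hT (mem_map_of_mem A.subtype hwQ))
  · have hdis : Disjoint (S : Subgroup ↥A) (Q : Subgroup ↥A) := IsPGroup.disjoint_of_ne r p hrp _ _ S.isPGroup' Q.isPGroup'
    exact congrArg Subtype.val (commute_of_normal_of_disjoint _ _ inferInstance inferInstance hdis _ _ hvS hwQ).eq

variable (hZ : center G = ⊥) (h𝓐 : IsNilCover 𝓐) (P : Sylow p G)
  (hab : IsMulCommutative ↥(P : Subgroup G))

include hZ h𝓐 hab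

theorem unique_member {A B : Subgroup G} (hA : A ∈ 𝓐) (hB : B ∈ 𝓐) {w : G} (hw1 : w ≠ 1)
    (hwp : IsPGroup p (zpowers w)) (hwA : w ∈ A) (hwB : w ∈ B) : A = B := by
  refine merge h𝓐 hA hB (M := centralizer ({w} : Set G)) (fun h => hw1 ?_)
    (le_centralizer_of_isNilpotent P hab (h𝓐.2.2 A hA) hwA hwp)
    (le_centralizer_of_isNilpotent P hab (h𝓐.2.2 B hB) hwB hwp)
  have : w ∈ center G := by
    rw [mem_center_iff]
    intro g
    exact mem_centralizer_singleton_iff.mp (h ▸ mem_top g)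
  rwa [hZ, mem_bot] at this

/-- If the Sylow subgroups are not elementary abelian of order above `p`, each lies in a member. -/
theorem exists_member (hnn : ¬ (P : Subgroup G).Normal)
    (hne : ¬ (Cfsg.IsElementaryAbelian p (P : Subgroup G) ∧ p < Nat.card ↥(P : Subgroup G)))
    (R : Sylow p G) : ∃ A ∈ 𝓐, (R : Subgroup G) ≤ A := by
  have hzp : ∀ y : G, y ∈ (R : Subgroup G) → IsPGroup p (zpowers y) := fun y hy =>
    R.isPGroup'.to_le (zpowers_le.mpr hy)
  by_cases hx : ∃ x ∈ (R : Subgroup G), x ^ p ≠ 1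
  · obtain ⟨x, hxR, hxp⟩ := hx
    obtain ⟨A, hA, hxA⟩ := h𝓐.1.2 x
    have hord : ∀ y ∈ (R : Subgroup G), y ^ p = 1 → y ∈ A := by
      intro y hy hyp
      obtain ⟨B, hB, hxy⟩ := h𝓐.1.2 (x * y)
      have hc : (x * y) ^ p = x ^ p := by
        rw [(show Commute x y from comm_of_sylow P hab R hxR hy).mul_pow, hyp, mul_one]
      have hBA : B = A := unique_member hZ h𝓐 P hab hB hA hxp
        (hzp _ ((R : Subgroup G).pow_mem hxR p)) (hc ▸ B.pow_mem hxy p) (A.pow_mem hxA p)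
      have := A.mul_mem (A.inv_mem hxA) (hBA ▸ hxy)
      rwa [inv_mul_cancel_left] at this
    refine ⟨A, hA, fun y hy => ?_⟩
    obtain ⟨k, hk⟩ := R.isPGroup' (⟨y, hy⟩ : ↥(R : Subgroup G))
    have hk' : y ^ p ^ k = 1 := by simpa using congrArg Subtype.val hk
    obtain ⟨j, hj⟩ := (Nat.dvd_prime_pow hp.out).mp (orderOf_dvd_of_pow_eq_one hk')
    rcases j with _ | j
    · rw [pow_zero, orderOf_eq_one_iff] at hj
      exact hj.2 ▸ A.one_mem
    have hwne : y ^ p ^ j ≠ 1 := pow_ne_one_of_lt_orderOf (pow_ne_zero _ hp.out.ne_zero)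
      (by rw [hj.2]; exact Nat.pow_lt_pow_succ hp.out.one_lt)
    have hwA : y ^ p ^ j ∈ A := hord _ ((R : Subgroup G).pow_mem hy _)
      (by rw [← pow_mul, ← pow_succ, ← hj.2, pow_orderOf_eq_one])
    obtain ⟨B, hB, hyB⟩ := h𝓐.1.2 y
    exact unique_member hZ h𝓐 P hab hB hA hwne (hzp _ ((R : Subgroup G).pow_mem hy _))
      (B.pow_mem hyB _) hwA ▸ hyB
  · push Not at hx
    have hPel : Cfsg.IsElementaryAbelian p (P : Subgroup G) := by
      refine ⟨hab, fun a ha => ?_⟩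
      obtain ⟨g, rfl⟩ := MulAction.exists_smul_eq G P R
      have h1 := hx (g * a * g⁻¹) (by rw [mem_smul_iff]; simpa [mul_assoc] using ha)
      rw [conj_pow, mul_inv_eq_one] at h1
      exact mul_eq_left.mp h1
    have hcard : Nat.card ↥(P : Subgroup G) ≤ p := not_lt.mp fun h => hne ⟨hPel, h⟩
    have hRb : (R : Subgroup G) ≠ ⊥ := by
      intro h
      refine hnn ?_
      have : Nat.card ↥(P : Subgroup G) = 1 := by
        rw [Sylow.card_eq_multiplicity, ← Sylow.card_eq_multiplicity R, h, card_bot]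
      rw [card_eq_one.mp this]
      infer_instance
    obtain ⟨x, hxR, hx1⟩ := (R : Subgroup G).bot_or_exists_ne_one.resolve_left hRb
    obtain ⟨A, hA, hxA⟩ := h𝓐.1.2 x
    refine ⟨A, hA, ?_⟩
    have : zpowers x = (R : Subgroup G) := by
      refine eq_of_le_of_card_ge (zpowers_le.mpr hxR) ?_
      rw [Nat.card_zpowers, orderOf_eq_prime (hx x hxR) hx1, Sylow.card_eq_multiplicity R,
        ← Sylow.card_eq_multiplicity P]
      exact hcard
    exact this ▸ zpowers_le.mpr hxA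

variable (hmem : ∀ R : Sylow p G, ∃ A ∈ 𝓐, (R : Subgroup G) ≤ A)

include hmem

theorem centralizer_singleton_eq (R : Sylow p G) {A : Subgroup G} (hA : A ∈ 𝓐) (hRA : (R : Subgroup G) ≤ A)
    {x : G} (hxR : x ∈ (R : Subgroup G)) (hx1 : x ≠ 1) : centralizer ({x} : Set G) = A := by
  have hxp : IsPGroup p (zpowers x) := R.isPGroup'.to_le (zpowers_le.mpr hxR)
  refine le_antisymm ?_ (le_centralizer_of_isNilpotent P hab (h𝓐.2.2 A hA) (hRA hxR) hxp)
  refine le_of_forall_isPGroup_le fun r hr T hT hTC y hy => ?_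
  have hcomm : Commute x y := ((mem_centralizer_singleton_iff.mp (hTC hy)).symm : x * y = y * x)
  by_cases hrp : r = p
  · subst hrp
    have hn : zpowers y ≤ normalizer ((zpowers x : Subgroup G) : Set G) :=
      le_trans (zpowers_le.mpr (mem_centralizer_iff.mpr fun u hu => by
        obtain ⟨i, rfl⟩ := hu; exact (hcomm.zpow_left i).eq)) (centralizer_le_normalizer _)
    obtain ⟨S, hS⟩ := ((hT.to_le (zpowers_le.mpr hy)).to_sup_of_normal_right' hxp hn).exists_le_sylow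
    obtain ⟨B, hB, hSB⟩ := hmem S
    have : B = A := unique_member hZ h𝓐 P hab hB hA hx1 hxp
      (hSB (hS (mem_sup_right (mem_zpowers x)))) (hRA hxR)
    exact this ▸ hSB (hS (mem_sup_left (mem_zpowers y)))
  · obtain ⟨B, hB, hxy⟩ := h𝓐.1.2 (x * y)
    obtain ⟨a, ha⟩ := R.isPGroup' (⟨x, hxR⟩ : ↥(R : Subgroup G))
    obtain ⟨b, hb⟩ := hT (⟨y, hy⟩ : ↥T)
    have ha' : x ^ p ^ a = 1 := by simpa using congrArg Subtype.val ha
    have hb' : y ^ r ^ b = 1 := by simpa using congrArg Subtype.val hb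
    obtain ⟨s, t, hst⟩ : IsCoprime ((p ^ a : ℕ) : ℤ) ((r ^ b : ℕ) : ℤ) := Nat.isCoprime_iff_coprime.mpr
      (((Nat.coprime_primes hp.out hr).mpr (Ne.symm hrp)).pow a b)
    have hxB : x ∈ B := by
      have h1 : (x * y) ^ ((r ^ b : ℕ) : ℤ) = x ^ ((r ^ b : ℕ) : ℤ) := by
        rw [zpow_natCast, zpow_natCast, hcomm.mul_pow, hb', mul_one]
      have h2 : x = (x ^ ((p ^ a : ℕ) : ℤ)) ^ s * (x ^ ((r ^ b : ℕ) : ℤ)) ^ t := by
        rw [← zpow_mul, ← zpow_mul, ← zpow_add, mul_comm _ s, mul_comm _ t, hst, zpow_one]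
      rw [h2, zpow_natCast, ha', one_zpow, one_mul, ← h1]
      exact B.zpow_mem (B.zpow_mem hxy _) _
    have hBA : B = A := unique_member hZ h𝓐 P hab hB hA hx1 hxp hxB (hRA hxR)
    have := A.mul_mem (A.inv_mem (hRA hxR)) (hBA ▸ hxy)
    rwa [inv_mul_cancel_left] at this

theorem centralizer_eq (R : Sylow p G) (hR : (R : Subgroup G) ≠ ⊥) {A : Subgroup G} (hA : A ∈ 𝓐)
    (hRA : (R : Subgroup G) ≤ A) : centralizer ((R : Subgroup G) : Set G) = A := by
  obtain ⟨x, hxR, hx1⟩ := (R : Subgroup G).bot_or_exists_ne_one.resolve_left hR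
  refine le_antisymm ((centralizer_le (Set.singleton_subset_iff.mpr hxR)).trans
    (centralizer_singleton_eq hZ h𝓐 P hab hmem R hA hRA hxR hx1).le) ?_
  intro a ha
  refine mem_centralizer_iff.mpr fun u hu => ?_
  exact (mem_centralizer_singleton_iff.mp
    (le_centralizer_of_isNilpotent P hab (h𝓐.2.2 A hA) (hRA hu) (R.isPGroup'.to_le (zpowers_le.mpr hu)) ha)).symm

variable (hnn : ¬ (P : Subgroup G).Normal)

include hnn

theorem sylow_ne_bot (R : Sylow p G) : (R : Subgroup G) ≠ ⊥ := by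
  intro h
  refine hnn ?_
  have : Nat.card ↥(P : Subgroup G) = 1 := by
    rw [Sylow.card_eq_multiplicity, ← Sylow.card_eq_multiplicity R, h, card_bot]
  rw [card_eq_one.mp this]
  infer_instance

/-- A proper overgroup of `C(P)` lies in the normalizer. -/
theorem le_normalizer_of_centralizer_le {M : Subgroup G} (hM : M ≠ ⊤)
    (hle : centralizer ((P : Subgroup G) : Set G) ≤ M) : M ≤ normalizer ((P : Subgroup G) : Set G) := by
  intro g hg
  obtain ⟨A, hA, hPA⟩ := hmem P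
  obtain ⟨B, hB, hRB⟩ := hmem (g • P)
  have hCP := centralizer_eq hZ h𝓐 P hab hmem P (sylow_ne_bot hZ h𝓐 P hab hmem hnn P) hA hPA
  have hCR := centralizer_eq hZ h𝓐 P hab hmem (g • P) (sylow_ne_bot hZ h𝓐 P hab hmem hnn _) hB hRB
  have hBM : B ≤ M := by
    intro b hb
    rw [← hCR] at hb
    have h1 : g⁻¹ * b * g ∈ centralizer ((P : Subgroup G) : Set G) := mem_centralizer_iff.mpr fun u hu => by
      have h2 := mem_centralizer_iff.mp hb (g * u * g⁻¹) (by
        show g * u * g⁻¹ ∈ ((g • P : Sylow p G) : Subgroup G)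
        rw [mem_smul_iff, show g⁻¹ * (g * u * g⁻¹) * g = u by group]; exact hu)
      calc u * (g⁻¹ * b * g) = g⁻¹ * ((g * u * g⁻¹) * b) * g := by group
        _ = g⁻¹ * (b * (g * u * g⁻¹)) * g := by rw [h2]
        _ = g⁻¹ * b * g * u := by group
    have h3 := M.mul_mem (M.mul_mem hg (hle h1)) (M.inv_mem hg)
    rwa [show g * (g⁻¹ * b * g) * g⁻¹ = b by group] at h3
  have hBA : B = A := merge h𝓐 hB hA hM hBM (hCP ▸ hle)
  have hRP : ((g • P : Sylow p G) : Subgroup G) ≤ P := le_of_isPGroup_of_le_normalizer P (g • P).isPGroup'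
    ((hBA ▸ hRB).trans (hCP.ge.trans (centralizer_le_normalizer _)))
  exact Sylow.smul_eq_iff_mem_normalizer.mp (Sylow.ext ((g • P).is_maximal' P.isPGroup' hRP).symm)

theorem isCoatom_normalizer : IsCoatom (normalizer ((P : Subgroup G) : Set G)) := by
  refine ⟨fun h => hnn (normalizer_eq_top_iff.mp h), fun H hH => ?_⟩
  by_contra hne
  exact hH.not_ge (le_normalizer_of_centralizer_le hZ h𝓐 P hab hmem hnn hne
    ((centralizer_le_normalizer _).trans hH.le))

theorem not_dvd_card_inf (g : G) (hg : g ∉ normalizer ((P : Subgroup G) : Set G)) :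
    ¬ p ∣ Nat.card ↥(normalizer ((P : Subgroup G) : Set G) ⊓
      (normalizer ((P : Subgroup G) : Set G)).map (MulAut.conj g).toMonoidHom) := by
  intro hd
  obtain ⟨⟨w, hw1, hw2⟩, hw⟩ := exists_prime_orderOf_dvd_card' p hd
  rw [← Subgroup.orderOf_coe] at hw
  change orderOf w = p at hw
  obtain ⟨v, hv, hvw⟩ := hw2
  have hwp : IsPGroup p (zpowers w) := IsPGroup.of_card (n := 1) (by rw [Nat.card_zpowers, hw, pow_one])
  have hwne : w ≠ 1 := fun h => hp.out.ne_one (by rw [← hw, h, orderOf_one])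
  have hwP : w ∈ (P : Subgroup G) :=
    le_of_isPGroup_of_le_normalizer P hwp (zpowers_le.mpr hw1) (mem_zpowers w)
  simp only [MulEquiv.coe_toMonoidHom, MulAut.conj_apply] at hvw
  have hvp : IsPGroup p (zpowers v) := IsPGroup.of_card (n := 1) (by
    rw [Nat.card_zpowers, pow_one, ← hw, ← hvw]
    exact ((MulAut.conj g).orderOf_eq v).symm)
  have hwR : w ∈ ((g • P : Sylow p G) : Subgroup G) := by
    rw [mem_smul_iff, ← hvw, show g⁻¹ * (g * v * g⁻¹) * g = v by group]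
    exact le_of_isPGroup_of_le_normalizer P hvp (zpowers_le.mpr hv) (mem_zpowers v)
  obtain ⟨A, hA, hPA⟩ := hmem P
  obtain ⟨B, hB, hRB⟩ := hmem (g • P)
  have hBA : B = A := unique_member hZ h𝓐 P hab hB hA hwne hwp (hRB hwR) (hPA hwP)
  have hCP := centralizer_eq hZ h𝓐 P hab hmem P (sylow_ne_bot hZ h𝓐 P hab hmem hnn P) hA hPA
  have hRP : ((g • P : Sylow p G) : Subgroup G) ≤ P := le_of_isPGroup_of_le_normalizer P (g • P).isPGroup'
    ((hBA ▸ hRB).trans (hCP.ge.trans (centralizer_le_normalizer _)))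
  exact hg (Sylow.smul_eq_iff_mem_normalizer.mp (Sylow.ext ((g • P).is_maximal' P.isPGroup' hRP).symm))

end Cfsg.Agent.Lib.NilpotentCover
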