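import Mathlib
import Cfsg.Agent.Lib.PGroupFrattini
import Cfsg.Agent.Lib.Thompson.CyclicNormalAbelian
import Cfsg.Agent.Lib.UniqueInvolution

/-! Generator bound for subgroups of irreducible 2-groups of automorphisms of an elementary
abelian group of odd order. -/

set_option autoImplicit false

namespace Cfsg.Agent.Lib.TwoLinearRank

open Subgroup

local instance : Fact (Nat.Prime 2) := ⟨Nat.prime_two⟩

variable {Q R : Type*} [Group Q] [Group R]

theorem fr_index_le_card [Finite Q] : (frattini Q).index ≤ Nat.card Q :=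
  Nat.le_of_dvd Nat.card_pos (Subgroup.index_dvd_card _)

theorem fr_index_mul_le [Finite Q] (hQ : IsPGroup 2 Q) (f : Q →* R) :
    (frattini Q).index ≤ (frattini ↥f.range).index * (frattini ↥f.ker).index := by
  set Φ := frattini Q with hΦdef
  haveI : Finite ↥f.range := Finite.of_surjective f.rangeRestrict f.rangeRestrict_surjective
  have hK : frattini ↥f.ker ≤ Φ.subgroupOf f.ker := by
    refine PGroupFrattini.frattini_le Nat.prime_two _ ?_ fun x => PGroupFrattini.pow_mem_frattini hQ (x : Q)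
    rw [_root_.commutator_def, Subgroup.commutator_le]
    intro a _ b _
    exact PGroupFrattini.commutator_le_frattini hQ
      (commutator_mem_commutator (mem_top (a : Q)) (mem_top (b : Q)))
  have hR : frattini ↥f.range ≤ Φ.map f.rangeRestrict := by
    refine PGroupFrattini.frattini_le Nat.prime_two _ ?_ fun x => ?_
    · rw [_root_.commutator_def, ← map_top_of_surjective f.rangeRestrict f.rangeRestrict_surjective,
        ← map_commutator]
      exact map_mono (PGroupFrattini.commutator_le_frattini hQ)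
    · obtain ⟨a, rfl⟩ := f.rangeRestrict_surjective x
      rw [← map_pow]
      exact mem_map_of_mem _ (PGroupFrattini.pow_mem_frattini hQ a)
  have h1 : (Φ ⊔ f.ker).index ≤ (frattini ↥f.range).index := by
    rw [← MonoidHom.ker_rangeRestrict f, ← comap_map_eq,
      index_comap_of_surjective _ f.rangeRestrict_surjective]
    exact Nat.le_of_dvd (Nat.pos_of_ne_zero index_ne_zero_of_finite) (index_dvd_of_le hR)
  have h2 : Φ.relIndex f.ker ≤ (frattini ↥f.ker).index :=
    Nat.le_of_dvd (Nat.pos_of_ne_zero index_ne_zero_of_finite) (index_dvd_of_le hK)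
  have h3 : Φ.index = Φ.relIndex f.ker * (Φ ⊔ f.ker).index := by
    rw [← relIndex_sup_right, sup_comm f.ker, relIndex_mul_index le_sup_left]
  rw [h3, mul_comm (frattini ↥f.range).index]
  exact Nat.mul_le_mul h2 h1


theorem fr_index_le_of_injective [Finite Q] (hQ : IsPGroup 2 Q) (f : Q →* R) (hf : Function.Injective f) :
    (frattini Q).index ≤ (frattini ↥f.range).index := by
  haveI : Subsingleton ↥f.ker := by
    rw [(f.ker_eq_bot_iff).mpr hf]; infer_instance
  refine (fr_index_mul_le hQ f).trans (le_of_eq ?_)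
  rw [show (frattini ↥f.ker).index = 1 from index_eq_one.mpr (Subsingleton.elim _ _), mul_one]

theorem fr_index_cyclic [Finite Q] (hQ : IsPGroup 2 Q) [IsCyclic Q] : (frattini Q).index ≤ 2 := by
  obtain ⟨g, hg⟩ := IsCyclic.exists_generator (α := Q)
  have hle : zpowers (g ^ 2) ≤ frattini Q := zpowers_le.mpr (PGroupFrattini.pow_mem_frattini hQ g)
  have h1 := index_dvd_of_le hle
  refine (Nat.le_of_dvd (Nat.pos_of_ne_zero index_ne_zero_of_finite) h1).trans ?_
  have h2 := (zpowers (g ^ 2)).card_mul_index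
  rw [Nat.card_zpowers, orderOf_pow, orderOf_eq_card_of_forall_mem_zpowers hg] at h2
  have hd : Nat.gcd (Nat.card Q) 2 ≤ 2 := Nat.gcd_le_right _ two_pos
  have hgd : Nat.gcd (Nat.card Q) 2 ∣ Nat.card Q := Nat.gcd_dvd_left _ _
  obtain ⟨c, hc⟩ := hgd
  have hpos : 0 < Nat.gcd (Nat.card Q) 2 := Nat.gcd_pos_of_pos_right _ two_pos
  nth_rw 1 [hc] at h2
  rw [Nat.mul_div_cancel_left _ hpos] at h2
  have hc0 : 0 < c := Nat.pos_of_ne_zero fun h => by
    have := Nat.card_pos (α := Q); rw [hc, h, mul_zero] at this; omega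
  rw [hc, mul_comm c] at h2
  have : (zpowers (g ^ 2)).index * c = Nat.gcd (Nat.card Q) 2 * c := by linarith
  rw [Nat.eq_of_mul_eq_mul_right hc0 this]
  exact hd

theorem fr_index_cyclic_two [Finite Q] (hQ : IsPGroup 2 Q) {C : Subgroup Q} [IsCyclic C] [C.Normal]
    (hC : C.index ≤ 2) (H : Subgroup Q) : (frattini ↥H).index ≤ 4 := by
  refine (fr_index_mul_le (hQ.to_subgroup H) ((QuotientGroup.mk' C).comp H.subtype)).trans ?_
  have h1 : (frattini ↥((QuotientGroup.mk' C).comp H.subtype).range).index ≤ 2 :=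
    fr_index_le_card.trans ((Subgroup.card_le_card_group _).trans (by rwa [← index_eq_card]))
  have h2 : (frattini ↥((QuotientGroup.mk' C).comp H.subtype).ker).index ≤ 2 := by
    haveI : IsCyclic ↥((QuotientGroup.mk' C).comp H.subtype).ker :=
      isCyclic_of_injective (MonoidHom.mk' (fun x => (⟨((x : ↥H) : Q),
          (QuotientGroup.eq_one_iff _).mp x.2⟩ : ↥C)) fun _ _ => rfl)
        (fun x y h => Subtype.ext (Subtype.ext (congrArg (Subtype.val) h :)))
    exact fr_index_cyclic ((hQ.to_subgroup H).to_subgroup _)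
  calc _ ≤ 2 * 2 := Nat.mul_le_mul h1 h2
    _ = 4 := rfl

/-- the bound, as a property -/
def Ok (q n d : ℕ) : Prop :=
  (n = 1 → d ≤ 2) ∧ (q = 3 → 2 ≤ n → 4 * d ^ 2 ≤ 8 ^ n) ∧ (q ≠ 3 → 2 * d ≤ 4 ^ n)

theorem ok_four {q n d : ℕ} (hn : 2 ≤ n) (h : d ≤ 4) : Ok q n d := by
  have h8 : 8 ^ 2 ≤ 8 ^ n := Nat.pow_le_pow_right (by norm_num) hn
  have h4 : 4 ^ 2 ≤ 4 ^ n := Nat.pow_le_pow_right (by norm_num) hn
  exact ⟨fun h => by omega, fun _ _ => by nlinarith, fun _ => by omega⟩

theorem ok_double {q a d d₁ d₂ : ℕ} (ha : 1 ≤ a) (h1 : Ok q a d₁) (h2 : Ok q a d₂)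
    (hd : d ≤ 2 * (d₁ * d₂)) (hbase : q = 3 → a = 1 → d ≤ 4) : Ok q (a + a) d := by
  refine ⟨fun h => by omega, fun h3 _ => ?_, fun h3 => ?_⟩
  · rcases Nat.lt_or_ge a 2 with hlt | hge
    · obtain rfl : a = 1 := by omega
      have := hbase h3 rfl
      norm_num
      nlinarith
    · have e1 := h1.2.1 h3 hge
      have e2 := h2.2.1 h3 hge
      rw [pow_add]
      calc 4 * d ^ 2 ≤ 4 * (2 * (d₁ * d₂)) ^ 2 :=
            Nat.mul_le_mul_left _ (Nat.pow_le_pow_left hd 2)
        _ = (4 * d₁ ^ 2) * (4 * d₂ ^ 2) := by ring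
        _ ≤ _ := Nat.mul_le_mul e1 e2
  · rw [pow_add]
    calc 2 * d ≤ 2 * (2 * (d₁ * d₂)) := Nat.mul_le_mul_left _ hd
      _ = (2 * d₁) * (2 * d₂) := by ring
      _ ≤ _ := Nat.mul_le_mul (h1.2.2 h3) (h2.2.2 h3)

theorem irreducible_bound.{u} (q : ℕ) [hq : Fact q.Prime] (hq2 : q ≠ 2) (n : ℕ) :
    ∀ (N : Type u) [CommGroup N] [Finite N], Nat.card N = q ^ n → (∀ v : N, v ^ q = 1) → 1 ≤ n →
    ∀ (P : Subgroup (MulAut N)), IsPGroup 2 P →
      (∀ X : Subgroup N, (∀ φ ∈ P, ∀ v ∈ X, φ v ∈ X) → X = ⊥ ∨ X = ⊤) →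
      ∀ H : Subgroup ↥P, Ok q n (frattini ↥H).index := by
  induction n using Nat.strong_induction_on with
  | _ n ih =>
  intro N _ _ hN hexp hn P hP hirr H
  have hdiv : ∀ {x y : N}, x ^ 2 = y ^ 2 → x = y := by
    intro x y h
    obtain ⟨k, hk⟩ := (hq.out.odd_of_ne_two hq2)
    have e : ∀ z : N, z = (z ^ 2) ^ (k + 1) := fun z => by
      rw [← pow_mul, show 2 * (k + 1) = q + 1 by omega, pow_succ, hexp, one_mul]
    rw [e x, e y, h]
  by_cases hcyc : ∀ A : Subgroup ↥P, A.Normal → IsMulCommutative A → IsCyclic A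
  · -- primitive: a cyclic subgroup of index at most two
    rcases Nat.lt_or_ge n 2 with hn1 | hn2
    · obtain rfl : n = 1 := by omega
      haveI : IsCyclic N := isCyclic_of_prime_card (p := q) (by rw [hN, pow_one])
      haveI : IsCyclic (ZMod (Nat.card N))ˣ := by
        rw [hN, pow_one]; exact ZMod.isCyclic_units_prime hq.out
      haveI : IsCyclic ↥H :=
        isCyclic_of_injective (((IsCyclic.mulAutMulEquiv N).toMonoidHom.comp P.subtype).comp H.subtype)
          ((IsCyclic.mulAutMulEquiv N).injective.comp (Subtype.val_injective.comp Subtype.val_injective))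
      have h2 := fr_index_cyclic (Q := ↥H) (hP.to_subgroup H)
      exact ⟨fun _ => h2, fun _ h => by omega, fun _ => by omega⟩
    refine ok_four hn2 ?_
    by_cases hPc : IsCyclic ↥P
    · exact (fr_index_cyclic (hP.to_subgroup H)).trans (by norm_num)
    obtain ⟨a, x, j, r, -, hxa, hcov, -⟩ :=
      Lib.Thompson.exists_inverting_of_normal_abelian_cyclic hP hcyc hPc
    have hidx : (zpowers a).index = 2 := by
      rw [index_eq_two_iff]
      refine ⟨x⁻¹, fun g => ?_⟩
      rcases hcov g with h | h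
      · refine Or.inr ⟨h, fun h' => hxa ?_⟩
        have := (zpowers a).mul_mem ((zpowers a).inv_mem h') h
        simpa using this
      · refine Or.inl ⟨h, fun h' => hxa ?_⟩
        have := (zpowers a).mul_mem ((zpowers a).inv_mem h) h'
        simpa using this
    haveI := normal_of_index_eq_two hidx
    exact fr_index_cyclic_two hP hidx.le H
  push Not at hcyc
  obtain ⟨A, hA, hAc, hAnc⟩ := hcyc
  -- an involution with two eigenspaces, sent to plus or minus itself
  let ι : MulAut N := MulEquiv.inv N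
  have hscalar : ∀ e : ↥P, e ^ 2 = 1 → (∀ g : ↥P, g * e = e * g) → e.1 = 1 ∨ e.1 = ι := by
    intro e he hc
    let X : Subgroup N :=
      { carrier := {v | e.1 v = v}
        one_mem' := map_one _
        mul_mem' := fun {a b} ha hb => by
          simp only [Set.mem_setOf_eq] at *
          rw [map_mul, ha, hb]
        inv_mem' := fun {a} ha => by
          simp only [Set.mem_setOf_eq] at *
          rw [map_inv, ha] }
    rcases hirr X fun φ hφ v hv => by
      show e.1 (φ v) = φ v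
      have := congrArg (fun t : ↥P => t.1 v) (hc ⟨φ, hφ⟩)
      simp only [Subgroup.coe_mul, MulAut.mul_apply] at this
      rw [← this, show e.1 v = v from hv] with h | h
    · refine Or.inr (MulEquiv.ext fun v => ?_)
      have hv : v * e.1 v ∈ X := by
        show e.1 (v * e.1 v) = _
        have := congrArg (fun t : ↥P => t.1 v) he
        simp only [sq, Subgroup.coe_mul, MulAut.mul_apply, Subgroup.coe_one, MulAut.one_apply] at this
        rw [map_mul, this, mul_comm]
      rw [h, mem_bot] at hv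
      exact eq_inv_of_mul_eq_one_right hv
    · exact Or.inl (MulEquiv.ext fun v => show v ∈ X from h ▸ mem_top v)
  let E : Subgroup ↥P :=
    { carrier := {x | x ∈ A ∧ x ^ 2 = 1}
      one_mem' := ⟨A.one_mem, one_pow 2⟩
      mul_mem' := fun {a b} ha hb => ⟨A.mul_mem ha.1 hb.1, by
        rw [Commute.mul_pow (show Commute a b from congrArg Subtype.val (hAc.is_comm.comm ⟨a, ha.1⟩ ⟨b, hb.1⟩) :), ha.2, hb.2, one_mul]⟩
      inv_mem' := fun {a} ha => ⟨A.inv_mem ha.1, by rw [inv_pow, ha.2, inv_one]⟩ }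
  have hEn : E.Normal := ⟨fun x hx g => ⟨hA.conj_mem x hx.1 g, by rw [conj_pow, hx.2, mul_one, mul_inv_cancel]⟩⟩
  obtain ⟨e₀, he₀, he₀1, he₀ι⟩ : ∃ e ∈ E, e.1 ≠ 1 ∧ e.1 ≠ ι := by
    by_contra hno
    push Not at hno
    refine hAnc ?_
    have hone : ∀ y : ↥A, orderOf y = 2 → (y : ↥P).1 = ι := by
      intro y hy
      have hy2 : (y : ↥P) ^ 2 = 1 := by
        rw [← SubgroupClass.coe_pow, ← hy, pow_orderOf_eq_one]; rfl
      refine hno y ⟨y.2, hy2⟩ fun h => ?_
      have : y = 1 := Subtype.ext (Subtype.ext h)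
      rw [this, orderOf_one] at hy
      omega
    have huniq : ∀ K L : Subgroup ↥A, Nat.card K = 2 → Nat.card L = 2 → K = L := by
      intro K L hK hL
      have key : ∀ K : Subgroup ↥A, Nat.card K = 2 → ∃ y : ↥A, (y : ↥P).1 = ι ∧ K = zpowers y := by
        intro K hK
        obtain ⟨⟨y, hyK⟩, hy⟩ := exists_prime_orderOf_dvd_card' (G := ↥K) 2 (dvd_of_eq hK.symm)
        rw [← Subgroup.orderOf_coe] at hy
        exact ⟨y, hone y hy, (eq_of_le_of_card_ge (zpowers_le.mpr hyK)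
          (by rw [Nat.card_zpowers, hy, hK])).symm⟩
      obtain ⟨y, hy, rfl⟩ := key K hK
      obtain ⟨z, hz, rfl⟩ := key L hL
      rw [show y = z from Subtype.ext (Subtype.ext (hy.trans hz.symm))]
    rcases Lib.UniqueInvolution.isCyclic_or_quaternion (p := 2) (hP.to_subgroup A) huniq with h | ⟨-, k, hk, ⟨ψ⟩⟩
    · exact h
    · exfalso
      have hcomm := hAc.is_comm.comm (ψ.symm (QuaternionGroup.a 1)) (ψ.symm (QuaternionGroup.xa 0))
      rw [← map_mul, ← map_mul, ψ.symm.injective.eq_iff, QuaternionGroup.a_mul_xa,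
        QuaternionGroup.xa_mul_a, QuaternionGroup.xa.injEq] at hcomm
      have h2 : ((2 : ℕ) : ZMod (2 * 2 ^ k)) = 0 := by
        rw [Nat.cast_ofNat]; linear_combination -hcomm
      rw [ZMod.natCast_eq_zero_iff] at h2
      have := Nat.le_of_dvd two_pos h2
      have : 2 ≤ 2 ^ k := Nat.le_self_pow (by omega) 2
      omega
  -- refine to an element sent to plus or minus itself by the whole group
  obtain ⟨e, he2, heι1, hne1, hneι⟩ : ∃ e : ↥P, e ^ 2 = 1 ∧
      (∀ g : ↥P, (g * e * g⁻¹).1 = e.1 ∨ (g * e * g⁻¹).1 = ι * e.1) ∧ e.1 ≠ 1 ∧ e.1 ≠ ι := by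
    classical
    haveI := hEn
    have hιι : ι * ι = 1 := MulEquiv.ext fun v => inv_inv v
    -- the scalar part of `E`
    let Z₀ : Subgroup ↥P :=
      { carrier := {x | x ∈ E ∧ (x.1 = 1 ∨ x.1 = ι)}
        one_mem' := ⟨E.one_mem, Or.inl rfl⟩
        mul_mem' := fun {a b} ha hb => ⟨E.mul_mem ha.1 hb.1, by
          rcases ha.2 with h | h <;> rcases hb.2 with h' | h' <;>
            simp only [Subgroup.coe_mul, h, h', one_mul, mul_one, hιι] <;>
            first | exact Or.inl rfl | exact Or.inr rfl | tauto⟩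
        inv_mem' := fun {a} ha => ⟨E.inv_mem ha.1, by
          have : a⁻¹ = a := by rw [inv_eq_iff_mul_eq_one, ← sq]; exact ha.1.2
          rw [this]; exact ha.2⟩ }
    have hZn : Z₀.Normal := by
      refine ⟨fun x hx g => ⟨hEn.conj_mem x hx.1 g, ?_⟩⟩
      rcases hx.2 with h | h
      · left; simp [h]
      · right
        refine MulEquiv.ext fun v => ?_
        simp only [Subgroup.coe_mul, Subgroup.coe_inv, h, MulAut.mul_apply]
        show g.1 ((g.1⁻¹ v)⁻¹) = v⁻¹
        rw [map_inv, MulAut.apply_inv_self]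
    haveI := hZn
    let π := QuotientGroup.mk' Z₀
    haveI : (E.map π).Normal := Subgroup.Normal.map hEn π (QuotientGroup.mk'_surjective _)
    have hne : E.map π ≠ ⊥ := by
      rw [Ne, Subgroup.map_eq_bot_iff, QuotientGroup.ker_mk']
      intro h
      rcases (h he₀).2 with h' | h'
      · exact he₀1 h'
      · exact he₀ι h'
    haveI := (E.map π).nontrivial_iff_ne_bot.mpr hne
    have hQp : IsPGroup 2 (↥P ⧸ Z₀) := hP.to_quotient Z₀
    obtain ⟨⟨w, hwE⟩, hw1, hwfix⟩ : ∃ w : ↥(E.map π), w ≠ 1 ∧ ∀ g : ↥P ⧸ Z₀, g * w.1 * g⁻¹ = w.1 := by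
      letI : MulAction (↥P ⧸ Z₀) ↥(E.map π) :=
        MulAction.compHom _ (MulAut.conjNormal (H := E.map π))
      have hdvd : 2 ∣ Nat.card ↥(E.map π) := by
        obtain ⟨i, hi⟩ := IsPGroup.iff_card.mp (hQp.to_subgroup (E.map π))
        rw [hi]
        refine dvd_pow_self 2 fun h0 => hne ?_
        rw [h0, pow_zero] at hi
        exact card_eq_one.mp hi
      obtain ⟨w, hw, hne'⟩ := hQp.exists_fixed_point_of_prime_dvd_card_of_fixed_point _ hdvd
        (a := (1 : ↥(E.map π))) (fun g => map_one (MulAut.conjNormal g))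
      exact ⟨w, hne'.symm, fun g => by
        have := congrArg Subtype.val (hw g)
        exact this⟩
    obtain ⟨e, heE, rfl⟩ := hwE
    have henZ : e ∉ Z₀ := fun h => hw1 (Subtype.ext ((QuotientGroup.eq_one_iff e).mpr h))
    refine ⟨e, heE.2, fun g => ?_, fun h => henZ ⟨heE, Or.inl h⟩, fun h => henZ ⟨heE, Or.inr h⟩⟩
    have hg := hwfix (π g)
    simp only at hg
    rw [← map_inv, ← map_mul, ← map_mul, ← mul_inv_eq_one, ← map_inv, ← map_mul,
      QuotientGroup.mk'_apply, QuotientGroup.eq_one_iff] at hg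
    have hinv : e⁻¹ = e := by rw [inv_eq_iff_mul_eq_one, ← sq]; exact heE.2
    have e1 : g * e * g⁻¹ = g * e * g⁻¹ * e⁻¹ * e := by group
    rcases hg.2 with h | h
    · left; rw [e1, Subgroup.coe_mul, h, one_mul]
    · right; rw [e1, Subgroup.coe_mul, h]
  have heapp : ∀ v, e.1 (e.1 v) = v := fun v => by
    have := congrArg (fun t : ↥P => t.1 v) he2
    simp only [sq, Subgroup.coe_mul, MulAut.mul_apply, Subgroup.coe_one, MulAut.one_apply] at this
    exact this
  -- the two eigenspaces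
  let U : Subgroup N :=
    { carrier := {v | e.1 v = v}
      one_mem' := map_one _
      mul_mem' := fun {a b} ha hb => by simp only [Set.mem_setOf_eq] at *; rw [map_mul, ha, hb]
      inv_mem' := fun {a} ha => by simp only [Set.mem_setOf_eq] at *; rw [map_inv, ha] }
  let W : Subgroup N :=
    { carrier := {v | e.1 v = v⁻¹}
      one_mem' := by simp
      mul_mem' := fun {a b} ha hb => by simp only [Set.mem_setOf_eq] at *; rw [map_mul, ha, hb, mul_inv]
      inv_mem' := fun {a} ha => by simp only [Set.mem_setOf_eq] at *; rw [map_inv, ha] }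
  have hUW : U ⊓ W = ⊥ := by
    refine (eq_bot_iff_forall _).mpr fun v hv => hdiv ?_
    have : v = v⁻¹ := (show e.1 v = v from hv.1).symm.trans hv.2
    rw [one_pow, sq]
    exact mul_eq_one_iff_eq_inv.mpr this
  have hdec : ∀ v : N, ∃ u ∈ U, ∃ w ∈ W, v = u * w := by
    intro v
    obtain ⟨k, hk⟩ := (hq.out.odd_of_ne_two hq2)
    have e2 : ∀ z : N, z = (z ^ 2) ^ (k + 1) := fun z => by
      rw [← pow_mul, show 2 * (k + 1) = q + 1 by omega, pow_succ, hexp, one_mul]
    refine ⟨(v * e.1 v) ^ (k + 1), U.pow_mem (show e.1 (v * e.1 v) = _ by rw [map_mul, heapp, mul_comm]) _,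
      (v * (e.1 v)⁻¹) ^ (k + 1), W.pow_mem (show e.1 (v * (e.1 v)⁻¹) = _ by
        rw [map_mul, map_inv, heapp, mul_inv, inv_inv, mul_comm]) _, ?_⟩
    rw [← mul_pow, show v * e.1 v * (v * (e.1 v)⁻¹) = v ^ 2 by rw [sq, mul_mul_mul_comm, mul_inv_cancel, mul_one]]
    exact e2 v
  let P₀ : Subgroup ↥P := centralizer {e}
  have hswap : ∀ g : ↥P, (g ∈ P₀ → (∀ v ∈ U, g.1 v ∈ U) ∧ ∀ v ∈ W, g.1 v ∈ W) ∧
      (g ∉ P₀ → (∀ v ∈ U, g.1 v ∈ W) ∧ ∀ v ∈ W, g.1 v ∈ U) := by
    intro g
    constructor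
    · intro hg
      have hc : ∀ v, e.1 (g.1 v) = g.1 (e.1 v) := fun v => by
        have := congrArg (fun t : ↥P => t.1 v) (mem_centralizer_singleton_iff.mp hg)
        simp only [Subgroup.coe_mul, MulAut.mul_apply] at this
        exact this.symm
      exact ⟨fun v hv => show e.1 (g.1 v) = g.1 v by rw [hc, show e.1 v = v from hv],
        fun v hv => show e.1 (g.1 v) = (g.1 v)⁻¹ by rw [hc, show e.1 v = v⁻¹ from hv, map_inv]⟩
    · intro hg
      have h := (heι1 g).resolve_left fun h => hg (mem_centralizer_singleton_iff.mpr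
        (mul_inv_eq_iff_eq_mul.mp (Subtype.ext h)))
      have hc : ∀ v, g.1 (e.1 v) = (e.1 (g.1 v))⁻¹ := fun v => by
        have h' := congrArg (fun t : MulAut N => t (g.1 v)) h
        simp only [Subgroup.coe_mul, Subgroup.coe_inv, MulAut.mul_apply, MulAut.inv_apply_self] at h'
        exact h'
      refine ⟨fun v hv => ?_, fun v hv => ?_⟩
      · show e.1 (g.1 v) = (g.1 v)⁻¹
        have := hc v
        rw [show e.1 v = v from hv] at this
        exact ((congrArg e.1 this).trans (by rw [map_inv, heapp]))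
      · show e.1 (g.1 v) = g.1 v
        have := hc v
        rw [show e.1 v = v⁻¹ from hv, map_inv, inv_inj] at this
        exact this.symm
  have hUne : U ≠ ⊤ := fun h => hne1 (MulEquiv.ext fun v => show v ∈ U from h ▸ mem_top v)
  have hWne : W ≠ ⊤ := fun h => hneι (MulEquiv.ext fun v => show v ∈ W from h ▸ mem_top v)
  have hUbot : U ≠ ⊥ := fun h => hWne (eq_top_iff.mpr fun v _ => by
    obtain ⟨u, hu, w, hw, rfl⟩ := hdec v
    rw [h, mem_bot] at hu
    rwa [hu, one_mul])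
  obtain ⟨g₁, hg₁⟩ : ∃ g : ↥P, g ∉ P₀ := by
    by_contra hall
    push Not at hall
    rcases hirr U fun φ hφ v hv => ((hswap ⟨φ, hφ⟩).1 (hall _)).1 v hv with h | h
    · exact hUbot h
    · exact hUne h
  have hP₀i : P₀.index = 2 := by
    rw [index_eq_two_iff]
    refine ⟨g₁⁻¹, fun g => ?_⟩
    by_cases hg : g ∈ P₀
    · refine Or.inr ⟨hg, fun h => hg₁ ?_⟩
      have := P₀.mul_mem (P₀.inv_mem h) hg
      simpa using this
    · refine Or.inl ⟨?_, hg⟩
      refine mem_centralizer_singleton_iff.mpr ?_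
      have h1 := (heι1 g).resolve_left fun h => hg (mem_centralizer_singleton_iff.mpr
        (mul_inv_eq_iff_eq_mul.mp (Subtype.ext h)))
      have h2 := (heι1 g₁).resolve_left fun h => hg₁ (mem_centralizer_singleton_iff.mpr
        (mul_inv_eq_iff_eq_mul.mp (Subtype.ext h)))
      have h3 : g * e * g⁻¹ = g₁ * e * g₁⁻¹ := Subtype.ext (h1.trans h2.symm)
      have h4 : g₁⁻¹ * g * e * (g₁⁻¹ * g)⁻¹ = e := by
        calc g₁⁻¹ * g * e * (g₁⁻¹ * g)⁻¹ = g₁⁻¹ * (g * e * g⁻¹) * g₁ := by group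
          _ = e := by rw [h3]; group
      -- transport along conjugation by `g`
      have h5 : (g * g₁⁻¹) * (g₁ * e * g₁⁻¹) = (g₁ * e * g₁⁻¹) * (g * g₁⁻¹) := by
        calc (g * g₁⁻¹) * (g₁ * e * g₁⁻¹) = (g * e * g⁻¹) * (g * g₁⁻¹) := by group
          _ = _ := by rw [h3]
      have h6 : ∀ x : ↥P, x * (g₁ * e * g₁⁻¹) = (g₁ * e * g₁⁻¹) * x → x * e = e * x := by
        intro x hx
        refine Subtype.ext (MulEquiv.ext fun v => ?_)
        have h7 := congrArg (fun t : ↥P => t.1 v) hx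
        simp only [Subgroup.coe_mul (H := P) x, Subgroup.coe_mul (H := P) (g₁ * e * g₁⁻¹) x, h2] at h7
        have h8 : x.1 (e.1 v)⁻¹ = (e.1 (x.1 v))⁻¹ := h7
        rw [map_inv, inv_inj] at h8
        exact h8
      exact h6 _ h5
  haveI hP₀n : P₀.Normal := normal_of_index_eq_two hP₀i
  -- the sizes
  have hinj : Function.Injective fun x : ↥U × ↥W => (x.1 : N) * x.2 := by
    rintro ⟨u, w⟩ ⟨u', w'⟩ h
    have h' : (u' : N)⁻¹ * (u : N) = w' * (w : N)⁻¹ := by
      simp only at h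
      rw [eq_mul_inv_iff_mul_eq, mul_assoc, h, inv_mul_cancel_left]
    have hm : (u' : N)⁻¹ * (u : N) ∈ U ⊓ W :=
      ⟨U.mul_mem (U.inv_mem u'.2) u.2, h' ▸ W.mul_mem w'.2 (W.inv_mem w.2)⟩
    rw [hUW, mem_bot] at hm
    rw [hm, eq_comm, mul_inv_eq_one] at h'
    rw [inv_mul_eq_one] at hm
    exact Prod.ext (Subtype.ext hm.symm) (Subtype.ext h'.symm)
  have hUWc : Nat.card U * Nat.card W = q ^ n := by
    rw [← Nat.card_prod, ← hN]
    exact Nat.card_eq_of_bijective _ ⟨hinj, fun v => by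
      obtain ⟨u, hu, w, hw, rfl⟩ := hdec v
      exact ⟨(⟨u, hu⟩, ⟨w, hw⟩), rfl⟩⟩
  have hcWU : Nat.card U = Nat.card W := by
    refine le_antisymm ?_ ?_
    · exact Nat.card_le_card_of_injective (fun u : ↥U => (⟨g₁.1 u, ((hswap g₁).2 hg₁).1 u u.2⟩ : ↥W))
        fun u v h => Subtype.ext (g₁.1.injective (congrArg Subtype.val h))
    · exact Nat.card_le_card_of_injective (fun u : ↥W => (⟨g₁.1 u, ((hswap g₁).2 hg₁).2 u u.2⟩ : ↥U))
        fun u v h => Subtype.ext (g₁.1.injective (congrArg Subtype.val h))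
  obtain ⟨a, -, ha⟩ := (Nat.dvd_prime_pow hq.out).mp (Dvd.intro _ hUWc)
  have hna : n = a + a := by
    rw [← hcWU, ha, ← pow_add] at hUWc
    exact (Nat.pow_right_injective hq.out.two_le hUWc).symm
  have ha0 : 1 ≤ a := by omega
  -- the action of the index two subgroup on an eigenspace
  have key : ∀ S S' : Subgroup N, (∀ g ∈ P₀, ∀ v ∈ S, g.1 v ∈ S) → (∀ v ∈ S, g₁.1 v ∈ S') →
      S ≠ ⊤ → S ⊓ S' = ⊥ →
      ∃ f : ↥P₀ →* MulAut ↥S, (∀ (g : ↥P₀) (v : ↥S), ((f g v : ↥S) : N) = (g : ↥P).1 v) ∧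
        ∀ X : Subgroup ↥S, (∀ φ ∈ f.range, ∀ v ∈ X, φ v ∈ X) → X = ⊥ ∨ X = ⊤ := by
    intro S S' hS hSg hST hSS'
    let F : ↥P₀ → MulAut ↥S := fun g =>
      { toFun := fun v => ⟨(g : ↥P).1 v, hS g g.2 v v.2⟩
        invFun := fun v => ⟨((g⁻¹ : ↥P₀) : ↥P).1 v, hS _ (g⁻¹).2 v v.2⟩
        left_inv := fun v => Subtype.ext (MulAut.inv_apply_self N _ _)
        right_inv := fun v => Subtype.ext (MulAut.apply_inv_self N _ _)
        map_mul' := fun v w => Subtype.ext (map_mul (g : ↥P).1 (v : N) (w : N)) }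
    refine ⟨MonoidHom.mk' F fun g h => MulEquiv.ext fun v => Subtype.ext rfl, fun _ _ => rfl,
      fun X hX => ?_⟩
    set X' : Subgroup N := X.map S.subtype with hX'
    have hinv0 : ∀ g ∈ P₀, ∀ v ∈ X', g.1 v ∈ X' := by
      rintro g hg _ ⟨v, hv, rfl⟩
      exact ⟨_, hX _ ⟨⟨g, hg⟩, rfl⟩ v hv, rfl⟩
    let X₁ : Subgroup N := X'.map (g₁.1 : N →* N)
    have hinv : ∀ φ ∈ P, ∀ v ∈ X' ⊔ X₁, φ v ∈ X' ⊔ X₁ := by
      intro φ hφ v hv
      have h1 : X' ≤ (X' ⊔ X₁).comap (φ : N →* N) := by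
        intro x hx
        rw [mem_comap, MonoidHom.coe_coe]
        by_cases h : (⟨φ, hφ⟩ : ↥P) ∈ P₀
        · exact mem_sup_left (hinv0 _ h x hx)
        · have hm : g₁⁻¹ * ⟨φ, hφ⟩ ∈ P₀ := by
            rw [mul_mem_iff_of_index_two hP₀i, inv_mem_iff]
            exact iff_of_false hg₁ h
          refine mem_sup_right ⟨(g₁⁻¹ * ⟨φ, hφ⟩ : ↥P).1 x, hinv0 _ hm x hx, ?_⟩
          show g₁.1 (g₁.1⁻¹ (φ x)) = φ x
          exact MulAut.apply_inv_self N _ _
      have h2 : X₁ ≤ (X' ⊔ X₁).comap (φ : N →* N) := by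
        rintro _ ⟨x, hx, rfl⟩
        rw [mem_comap, MonoidHom.coe_coe, MonoidHom.coe_coe]
        by_cases h : (⟨φ, hφ⟩ : ↥P) ∈ P₀
        · refine mem_sup_right ⟨(g₁⁻¹ * ⟨φ, hφ⟩ * g₁ : ↥P).1 x,
            hinv0 _ (by simpa using hP₀n.conj_mem _ h g₁⁻¹) x hx, ?_⟩
          show g₁.1 (g₁.1⁻¹ (φ (g₁.1 x))) = φ (g₁.1 x)
          exact MulAut.apply_inv_self N _ _
        · have hm : (⟨φ, hφ⟩ : ↥P) * g₁ ∈ P₀ := by
            rw [mul_mem_iff_of_index_two hP₀i]
            exact iff_of_false h hg₁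
          have := hinv0 _ hm x hx
          exact mem_sup_left this
      exact (sup_le h1 h2) hv
    have hX'S : X' ≤ S := map_subtype_le _
    have hX₁S : X₁ ≤ S' := by
      rintro _ ⟨x, hx, rfl⟩
      exact hSg x (hX'S hx)
    rcases hirr (X' ⊔ X₁) hinv with h | h
    · left
      have : X' = ⊥ := le_bot_iff.mp (h ▸ le_sup_left)
      rwa [hX', map_eq_bot_iff_of_injective _ S.subtype_injective] at this
    · right
      refine eq_top_iff.mpr fun v _ => ?_
      have hv : (v : N) ∈ X' ⊔ X₁ := h ▸ mem_top _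
      obtain ⟨x, hx, y, hy, hxy⟩ := mem_sup.mp hv
      have hyS : y ∈ S ⊓ S' := ⟨by
        have : y = x⁻¹ * v := by rw [← hxy]; group
        rw [this]; exact S.mul_mem (S.inv_mem (hX'S hx)) v.2, hX₁S hy⟩
      rw [hSS', mem_bot] at hyS
      rw [hyS, mul_one] at hxy
      obtain ⟨z, hz, hzx⟩ := hx
      rw [show v = z from Subtype.ext (hxy ▸ hzx.symm :)]
      exact hz
  obtain ⟨fU, hfU, hirrU⟩ := key U W (fun g hg => ((hswap g).1 hg).1) ((hswap g₁).2 hg₁).1 hUne hUW
  obtain ⟨fW, hfW, hirrW⟩ := key W U (fun g hg => ((hswap g).1 hg).2) ((hswap g₁).2 hg₁).2 hWne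
    (by rw [inf_comm]; exact hUW)
  have hPp0 : IsPGroup 2 ↥P₀ := hP.to_subgroup P₀
  have hboundU := ih a (by omega) ↥U ha (fun v => Subtype.ext (hexp v)) ha0 fU.range
    (hPp0.of_surjective fU.rangeRestrict fU.rangeRestrict_surjective) hirrU
  have hboundW := ih a (by omega) ↥W (hcWU ▸ ha) (fun v => Subtype.ext (hexp v)) ha0 fW.range
    (hPp0.of_surjective fW.rangeRestrict fW.rangeRestrict_surjective) hirrW
  -- split off the quotient by `P₀`
  set f₁ := (QuotientGroup.mk' P₀).comp H.subtype with hf₁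
  have hH : IsPGroup 2 ↥H := hP.to_subgroup H
  have hd1 : (frattini ↥f₁.range).index ≤ 2 :=
    fr_index_le_card.trans ((Subgroup.card_le_card_group _).trans (by rw [← index_eq_card, hP₀i]))
  let j : ↥f₁.ker →* ↥P₀ :=
    MonoidHom.mk' (fun x => ⟨((x : ↥H) : ↥P), (QuotientGroup.eq_one_iff _).mp x.2⟩) fun _ _ => rfl
  have hjinj : Function.Injective j := fun x y h =>
    Subtype.ext (Subtype.ext (congrArg Subtype.val h :))
  let j₁ : ↥f₁.ker →* ↥fU.range := fU.rangeRestrict.comp j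
  have hK : IsPGroup 2 ↥f₁.ker := hH.to_subgroup _
  let j₂ : ↥j₁.ker →* ↥fW.range := (fW.rangeRestrict.comp j).comp j₁.ker.subtype
  have hj₂ : Function.Injective j₂ := by
    rw [injective_iff_map_eq_one]
    intro x hx
    have hWfix : ∀ w ∈ W, (j x.1).1.1 w = w := fun w hw => by
      have := congrArg (fun t : ↥fW.range => (((t : MulAut ↥W) ⟨w, hw⟩ : ↥W) : N)) hx
      exact (hfW (j x.1) ⟨w, hw⟩).symm.trans this
    have hUfix : ∀ w ∈ U, (j x.1).1.1 w = w := fun w hw => by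
      have := congrArg (fun t : ↥fU.range => (((t : MulAut ↥U) ⟨w, hw⟩ : ↥U) : N)) (x.2 : j₁ x.1 = 1)
      exact (hfU (j x.1) ⟨w, hw⟩).symm.trans this
    refine Subtype.ext (hjinj (Subtype.ext (Subtype.ext (MulEquiv.ext fun v => ?_))))
    obtain ⟨u, hu, w, hw, rfl⟩ := hdec v
    show (j x.1).1.1 (u * w) = _
    rw [map_mul, hUfix u hu, hWfix w hw]
    simp
  have hd : (frattini ↥H).index ≤
      2 * ((frattini ↥j₁.range).index * (frattini ↥j₂.range).index) :=
    (fr_index_mul_le hH f₁).trans (Nat.mul_le_mul hd1 ((fr_index_mul_le hK j₁).trans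
      (Nat.mul_le_mul_left _ (fr_index_le_of_injective (hK.to_subgroup _) j₂ hj₂))))
  rw [hna]
  refine ok_double ha0 (hboundU j₁.range) (hboundW j₂.range) hd fun h3 ha1 => ?_
  -- `q = 3`, `n = 2`: the group has order at most eight and is not abelian
  subst h3
  subst ha1
  have hcard2 : ∀ S : Subgroup N, Nat.card S = 3 → Nat.card (MulAut ↥S) ≤ 2 := fun S hS => by
    haveI : IsCyclic ↥S := isCyclic_of_prime_card hS
    rw [IsCyclic.card_mulAut, hS, Nat.totient_prime Nat.prime_three]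
  have hU3 : Nat.card U = 3 := by rw [ha, pow_one]
  have hkerle : Nat.card ↥f₁.ker ≤ 4 := by
    have h1 : Nat.card ↥j₁.range ≤ 2 :=
      (Subgroup.card_le_card_group _).trans ((Subgroup.card_le_card_group _).trans (hcard2 U hU3))
    have h2 : Nat.card ↥j₁.ker ≤ 2 :=
      (Nat.card_le_card_of_injective j₂ hj₂).trans
        ((Subgroup.card_le_card_group _).trans (hcard2 W (hcWU ▸ hU3)))
    rw [← j₁.ker.card_mul_index, index_ker]
    exact Nat.mul_le_mul h2 h1
  have hP₀le : Nat.card ↥P₀ ≤ 4 := by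
    let i₁ : ↥P₀ →* MulAut ↥U × MulAut ↥W := fU.prod fW
    have hi : Function.Injective i₁ := by
      rw [injective_iff_map_eq_one]
      intro x hx
      refine Subtype.ext (Subtype.ext (MulEquiv.ext fun v => ?_))
      obtain ⟨u, hu, w, hw, rfl⟩ := hdec v
      have h1 := congrArg (fun t : MulAut ↥U × MulAut ↥W => ((t.1 ⟨u, hu⟩ : ↥U) : N)) hx
      have h2 := congrArg (fun t : MulAut ↥U × MulAut ↥W => ((t.2 ⟨w, hw⟩ : ↥W) : N)) hx
      show x.1.1 (u * w) = _
      rw [map_mul, (hfU x ⟨u, hu⟩).symm.trans h1, (hfW x ⟨w, hw⟩).symm.trans h2]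
      simp
    calc Nat.card ↥P₀ ≤ Nat.card (MulAut ↥U × MulAut ↥W) := Nat.card_le_card_of_injective i₁ hi
      _ ≤ 4 := by rw [Nat.card_prod]; exact Nat.mul_le_mul (hcard2 U hU3) (hcard2 W (hcWU ▸ hU3))
  have hHc : Nat.card ↥H ≤ 8 := by
    refine (Subgroup.card_le_card_group H).trans ?_
    rw [← P₀.card_mul_index, hP₀i]
    omega
  have hidx := (frattini ↥H).card_mul_index
  by_contra hgt
  push Not at hgt
  -- then `H` is the whole group and elementary abelian
  obtain ⟨i, hi⟩ := IsPGroup.iff_card.mp (hH.to_quotient (frattini ↥H))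
  rw [← index_eq_card] at hi
  have hi3 : 3 ≤ i := by
    by_contra h
    have : 2 ^ i ≤ 2 ^ 2 := Nat.pow_le_pow_right two_pos (by omega)
    omega
  have h8 : 8 ≤ (frattini ↥H).index := by
    rw [hi]; exact Nat.pow_le_pow_right two_pos hi3
  have hΦ : Nat.card ↥(frattini ↥H) = 1 := by
    have hpos : 0 < Nat.card ↥(frattini ↥H) := Nat.card_pos
    nlinarith
  have hHcard : Nat.card ↥H = 8 := by rw [hΦ, one_mul] at hidx; omega
  have hHtop : H = ⊤ := eq_top_of_card_eq H (le_antisymm (Subgroup.card_le_card_group H) (by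
    rw [hHcard, ← P₀.card_mul_index, hP₀i]; omega))
  have hab : g₁ * e = e * g₁ := by
    have hm := PGroupFrattini.commutator_le_frattini hH (commutator_mem_commutator
      (mem_top (⟨g₁, hHtop ▸ mem_top _⟩ : ↥H)) (mem_top (⟨e, hHtop ▸ mem_top _⟩ : ↥H)))
    rw [card_eq_one.mp hΦ, mem_bot, commutatorElement_eq_one_iff_mul_comm] at hm
    exact congrArg Subtype.val hm
  exact hg₁ (mem_centralizer_singleton_iff.mpr hab)

end Cfsg.Agent.Lib.TwoLinearRank
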